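import Cfsg.Agent.Lib.ON2.Bas
import Cfsg.Agent.S0058

/-! ON2 package A1: under `HA` a product of involutions of two distinct components determines
its base point. -/

set_option autoImplicit false
set_option linter.unusedSectionVars false

namespace H98.ON2.Cs

open Subgroup

/-- Z* for a faithful action with a four-group all of whose involutions fix only `x`. -/
theorem a1_core {H Y : Type*} [Group H] [Finite H] [MulAction H Y] {x y : Y} {s a : H}
    (hxy : y ≠ x) (s2 : s * s = 1) (a2 : a * a = 1) (hc : a * s = s * a)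
    (fs : ∀ z, s • z = z ↔ z = x) (fa : ∀ z, a • z = z ↔ z = x)
    (fas : ∀ z, (a * s) • z = z ↔ z = x)
    (iso : ∀ c : H, c • x = x → c * s * c⁻¹ = s) (g : H) : g • x = x := by
  have s1 : s ≠ 1 := fun h => hxy ((fs y).1 (by rw [h, one_smul]))
  have a1 : a ≠ 1 := fun h => hxy ((fa y).1 (by rw [h, one_smul]))
  have as1 : a * s ≠ 1 := fun h => hxy ((fas y).1 (by rw [h, one_smul]))
  have sx : s • x = x := (fs x).2 rfl
  have key : ∀ c : H, (c * s * c⁻¹) • x = x → c • x = x := by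
    intro c h
    have h1 : s • c⁻¹ • x = c⁻¹ • x := by
      rw [mul_smul, mul_smul] at h
      rw [eq_inv_smul_iff]; exact h
    have h2 := (fs _).1 h1
    rw [inv_smul_eq_iff] at h2
    exact h2.symm
  have hiso : Cfsg.IsIsolatedInvolution s := by
    refine ⟨orderOf_eq_prime (by rw [pow_two, s2]) s1, fun c hcm => iso c (key c ?_)⟩
    apply (fs _).1
    rw [← mul_smul, hcm.eq, mul_smul, sx]
  obtain ⟨O, hOn, hodd, hO⟩ := H41.Isolated.zstar_exists hiso
  have sinv : s⁻¹ = s := inv_eq_of_mul_eq_one_right s2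
  have ainv : a⁻¹ = a := inv_eq_of_mul_eq_one_right a2
  have sas : s * (a * s) = a := by rw [← mul_assoc, ← hc, mul_assoc, s2, mul_one]
  have aas : a * (a * s) = s := by rw [← mul_assoc, a2, one_mul]
  have ass : a * s * s = a := by rw [mul_assoc, s2, mul_one]
  have asa : a * s * a = s := by rw [mul_assoc, ← hc, aas]
  have asas : a * s * (a * s) = 1 := by rw [← mul_assoc, asa, s2]
  let V : Subgroup H :=
    { carrier := {v | v = 1 ∨ v = a ∨ v = s ∨ v = a * s}
      one_mem' := Or.inl rfl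
      mul_mem' := by
        rintro u v (rfl | rfl | rfl | rfl) (rfl | rfl | rfl | rfl) <;>
          simp [s2, a2, sas, aas, ass, asa, asas, ← hc]
      inv_mem' := by
        rintro u (rfl | rfl | rfl | rfl)
        · simp
        · simp [ainv]
        · simp [sinv]
        · rw [inv_eq_of_mul_eq_one_right asas]; simp }
  have hV : ∀ v, v ∈ V ↔ v = 1 ∨ v = a ∨ v = s ∨ v = a * s := fun v => Iff.rfl
  have hV2 : ∀ v ∈ V, v * v = 1 := by
    intro v hv
    rcases (hV v).1 hv with rfl | rfl | rfl | rfl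
    exacts [one_mul 1, a2, s2, asas]
  have hVc : ∀ u ∈ V, ∀ v ∈ V, u * v = v * u := by
    intro u hu v hv
    have h1 := hV2 _ (V.mul_mem hu hv)
    have h2 : (u * v)⁻¹ = u * v := inv_eq_of_mul_eq_one_right h1
    rw [mul_inv_rev, inv_eq_of_mul_eq_one_right (hV2 u hu),
      inv_eq_of_mul_eq_one_right (hV2 v hv)] at h2
    exact h2.symm
  haveI : IsMulCommutative V := ⟨⟨fun u v => Subtype.ext (hVc _ u.2 _ v.2)⟩⟩
  have hnc : ¬ IsCyclic V := by
    rintro ⟨⟨u, hu⟩⟩
    have hz : ∀ v ∈ V, v = 1 ∨ v = (u : H) := by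
      intro v hv
      obtain ⟨k, hk⟩ := hu ⟨v, hv⟩
      have hk' : (u : H) ^ k = v := by simpa using congrArg Subtype.val hk
      have u2 : (u : H) ^ (2 : ℤ) = 1 := by rw [zpow_two]; exact hV2 _ u.2
      rcases Int.even_or_odd' k with ⟨j, rfl | rfl⟩
      · left; rw [← hk', zpow_mul, u2, one_zpow]
      · right; rw [← hk', zpow_add, zpow_mul, u2, one_zpow, one_mul, zpow_one]
    have e1 := (hz a ((hV a).2 (by simp))).resolve_left a1
    have e2 := (hz s ((hV s).2 (by simp))).resolve_left s1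
    exact as1 (by rw [e1, ← e2, s2])
  have hp : IsPGroup 2 V := by
    intro v
    exact ⟨1, Subtype.ext (by simpa [pow_two] using hV2 _ v.2)⟩
  haveI : Fact (Nat.Prime 2) := ⟨Nat.prime_two⟩
  obtain ⟨n, hn⟩ := IsPGroup.iff_card.1 hp
  have hcop : (Nat.card V).Coprime (Nat.card O) := by
    rw [hn]
    exact Nat.Coprime.pow_left n (Nat.coprime_two_left.2 hodd)
  have hgen := Cfsg.Agent.S0058.result V O hnc (by rw [normalizer_eq_top]; exact le_top) hcop
  have hOx : O ≤ MulAction.stabilizer H x := by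
    rw [← hgen]
    refine iSup₂_le ?_
    rintro v ⟨hv, v1⟩ o ⟨-, ho⟩
    have hcm : v * o = o * v := (mem_centralizer_singleton_iff.1 ho).symm
    have hf : ∀ z, v • z = z ↔ z = x := by
      rcases (hV v).1 hv with rfl | rfl | rfl | rfl
      exacts [absurd rfl v1, fa, fs, fas]
    rw [MulAction.mem_stabilizer_iff]
    apply (hf _).1
    rw [← mul_smul, hcm, mul_smul, (hf x).2 rfl]
  apply key
  have h1 : (s * g * s⁻¹ * g⁻¹) • x = x := hOx (hO g)
  have h2 : g * s * g⁻¹ = s * (s * g * s⁻¹ * g⁻¹) := by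
    rw [sinv]; simp only [← mul_assoc, s2, one_mul]
  rw [h2, mul_smul, h1, sx]

/-- The same for an action that need not be faithful. -/
theorem a1_core' {H Y : Type*} [Group H] [Finite Y] [MulAction H Y] {x y : Y} {s a : H}
    (hxy : y ≠ x) (s2 : s * s = 1) (a2 : a * a = 1) (hc : a * s = s * a)
    (fs : ∀ z, s • z = z ↔ z = x) (fa : ∀ z, a • z = z ↔ z = x)
    (fas : ∀ z, (a * s) • z = z ↔ z = x)
    (iso : ∀ c : H, c • x = x → ∀ z : Y, (c * s * c⁻¹) • z = s • z) (g : H) : g • x = x := by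
  let φ := (MulAction.toPermHom H Y).rangeRestrict
  have hφ : ∀ (h : H) (z : Y), φ h • z = h • z := fun h z => rfl
  have hs : Function.Surjective φ := MonoidHom.rangeRestrict_surjective _
  rw [← hφ]
  refine a1_core (s := φ s) (a := φ a) hxy (by rw [← map_mul, s2, map_one])
    (by rw [← map_mul, a2, map_one]) (by rw [← map_mul, hc, map_mul]) fs fa
    (by intro z; rw [← map_mul, hφ]; exact fas z) ?_ (φ g)
  intro c hcx
  obtain ⟨c, rfl⟩ := hs c
  rw [← map_inv, ← map_mul, ← map_mul]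
  apply Subtype.ext
  ext z
  exact iso c hcx z

variable {G X : Type*} [Group G] [Finite G] [MulAction G X] [Finite X] {C : Cs G X}

theorem a1_s2_smul {z : X} {w : G} (h : C.S2 z w) (c : G) : C.S2 (c • z) (c * w * c⁻¹) := by
  obtain ⟨K, hK, L, hL, hne, s, hs, t, ht, is, it, rfl⟩ := h
  refine ⟨cj c K, C.cjC c hK, cj c L, C.cjC c hL, fun h => hne (cj_inj.1 h), _, cj_mem hs, _,
    cj_mem ht, is.conj c, it.conj c, by group⟩

theorem a1_s2_fix {z : X} {w : G} (h : C.S2 z w) : w • z = z := by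
  obtain ⟨K, hK, L, hL, -, s, hs, t, ht, -, -, rfl⟩ := h
  rw [mul_smul, C.kfix hL ht, C.kfix hK hs]

/-- If `s t = s' t'` then `K` is one of the components containing `s'`, `t'`. -/
theorem a1_mem {x : X} {K L K' L' : Subgroup G} {s t s' t' : G} (hK : K ∈ C.Cp x)
    (hL : L ∈ C.Cp x) (hK' : K' ∈ C.Cp x) (hL' : L' ∈ C.Cp x) (hne : K ≠ L) (hs : s ∈ K)
    (ht : t ∈ L) (hs' : s' ∈ K') (ht' : t' ∈ L') (s1 : s ≠ 1) (e : s * t = s' * t') :
    K = K' ∨ K = L' := by
  by_contra hcon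
  push Not at hcon
  refine s1 ((C.ss hK).zc s hs fun k hk => ?_)
  have h1 := C.comm hK hL hne k hk t ht
  have h2 := C.comm hK hK' hcon.1 k hk s' hs'
  have h3 := C.comm hK hL' hcon.2 k hk t' ht'
  have h4 : s * t * k = k * (s * t) := by
    rw [e, mul_assoc, ← h3, ← mul_assoc, ← h2, mul_assoc]
  rw [mul_assoc, ← h1, ← mul_assoc, ← mul_assoc] at h4
  exact mul_right_cancel h4

theorem a1_conj {x : X} {K L : Subgroup G} {s t c : G} (hK : K ∈ C.Cp x)
    (hL : L ∈ C.Cp x) (hne : K ≠ L) (hs : s ∈ K) (ht : t ∈ L) (s1 : s ≠ 1) (t1 : t ≠ 1)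
    (hcx : c • x = x) (hc : c * (s * t) = s * t * c) : c * s * c⁻¹ = s ∨ c * s * c⁻¹ = t := by
  have hK' := C.cjC' hcx hK
  have hL' := C.cjC' hcx hL
  have hs' : c * s * c⁻¹ ∈ cj c K := cj_mem hs
  have ht' : c * t * c⁻¹ ∈ cj c L := cj_mem ht
  have e : s * t = c * s * c⁻¹ * (c * t * c⁻¹) := by
    calc s * t = s * t * c * c⁻¹ := by group
      _ = _ := by rw [← hc]; group
  have st := C.comm hK hL hne s hs t ht
  have h1 := a1_mem hK hL hK' hL' hne hs ht hs' ht' s1 e
  have h2 := a1_mem hL hK hK' hL' hne.symm ht hs hs' ht' t1 (st ▸ e)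
  generalize c * s * c⁻¹ = s' at *
  generalize c * t * c⁻¹ = t' at *
  rcases h1 with h1 | h1
  · left
    have h3 : L = cj c L := h2.resolve_left fun h => hne (h1.trans h.symm)
    rw [← h1] at hs'
    rw [← h3] at ht'
    have e' : s'⁻¹ * s = t' * t⁻¹ := by
      calc s'⁻¹ * s = s'⁻¹ * (s * t) * t⁻¹ := by group
        _ = _ := by rw [e]; group
    have := C.disj hK hL hne (K.mul_mem (K.inv_mem hs') hs) (e' ▸ L.mul_mem ht' (L.inv_mem ht))
    exact inv_mul_eq_one.1 this
  · right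
    have h3 : L = cj c K := h2.resolve_right fun h => hne (h1.trans h.symm)
    rw [← h1] at ht'
    rw [← h3] at hs'
    have e' : s * t'⁻¹ = t⁻¹ * s' := by
      calc s * t'⁻¹ = t⁻¹ * (t * s) * t'⁻¹ := by group
        _ = _ := by rw [← st, e]; group
    have := C.disj hK hL hne (e' ▸ K.mul_mem hs (K.inv_mem ht')) (L.mul_mem (L.inv_mem ht) hs')
    exact (inv_mul_eq_one.1 this).symm

theorem HA.s2_uniq (hA : C.HA) {x y : X} {w : G} (hx : C.S2 x w) (hy : C.S2 y w) : x = y := by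
  by_contra hxy
  let Γ : Subgroup G := centralizer {w}
  have mΓ : ∀ {c : G}, c ∈ Γ ↔ c * w = w * c := mem_centralizer_singleton_iff
  let Ψ : SubMulAction Γ X :=
    { carrier := {z | C.S2 z w}
      smul_mem' := fun c z hz => by
        have h := a1_s2_smul (show C.S2 z w from hz) (c : G)
        rw [mΓ.1 c.2, mul_inv_cancel_right] at h
        exact h }
  have hx' := hx
  obtain ⟨K, hK, L, hL, hne, s, hs, t, ht, is, it, hw⟩ := hx'
  obtain ⟨a, ha, ia, has, hc⟩ := (C.ss hK).comm_inv hs is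
  have st := C.comm hK hL hne s hs t ht
  have hsΓ : s ∈ Γ := mΓ.2 (by rw [hw, mul_assoc, ← st])
  have haΓ : a ∈ Γ := mΓ.2 (by
    rw [hw, ← mul_assoc, hc, mul_assoc, C.comm hK hL hne a ha t ht, mul_assoc])
  have fixK : ∀ (k : Γ), (k : G) ∈ K → Inv (k : G) → ∀ z : Ψ, k • z = z ↔ z = ⟨x, hx⟩ := by
    intro k hk ik z
    constructor
    · intro h
      exact Subtype.ext (hA hK hk ik (congrArg Subtype.val h))
    · rintro rfl
      exact Subtype.ext (C.kfix hK hk)
  have main := a1_core' (H := Γ) (Y := Ψ) (x := ⟨x, hx⟩) (y := ⟨y, hy⟩) (s := ⟨s, hsΓ⟩)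
    (a := ⟨a, haΓ⟩) (fun h => hxy (congrArg Subtype.val h).symm) (Subtype.ext is.2)
    (Subtype.ext ia.2) (Subtype.ext hc) (fixK _ hs is) (fixK _ ha ia)
    (fixK _ (K.mul_mem ha hs) (ia.mul is has hc)) (by
      intro c hcx z
      apply Subtype.ext
      change ((c : G) * s * (c : G)⁻¹) • (z : X) = s • (z : X)
      rcases a1_conj hK hL hne hs ht is.1 it.1 (congrArg Subtype.val hcx)
        (hw ▸ mΓ.1 c.2) with h | h
      · rw [h]
      · rw [h]
        have hz : w • (z : X) = z := a1_s2_fix z.2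
        rw [hw, mul_smul, ← eq_inv_smul_iff, is.inv_eq] at hz
        exact hz)
  obtain ⟨K', hK', L', hL', hne', s', hs', t', ht', is', it', hw'⟩ := hy
  have hs'Γ : s' ∈ Γ := mΓ.2 (by rw [hw', mul_assoc, ← C.comm hK' hL' hne' s' hs' t' ht'])
  exact hxy (hA hK' hs' is' (congrArg Subtype.val (main ⟨s', hs'Γ⟩)))

end H98.ON2.Cs
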