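import Cfsg.Agent.Lib.ON2.Bas

set_option autoImplicit false
set_option linter.unusedSectionVars false

namespace H98.ON2.Cs

open Subgroup

variable {G X : Type*} [Group G] [Finite G] [MulAction G X] [Finite X] {C : Cs G X}

namespace A2

theorem s2_conj {x : X} {w : G} (h : C.S2 x w) (g : G) : C.S2 (g • x) (g * w * g⁻¹) := by
  obtain ⟨K, hK, L, hL, hne, s, hs, t, ht, si, ti, rfl⟩ := h
  exact ⟨_, C.cjC g hK, _, C.cjC g hL, fun e => hne (cj_inj.1 e), _, cj_mem hs, _, cj_mem ht,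
    si.conj g, ti.conj g, by group⟩

theorem s2_sq {x : X} {w : G} (h : C.S2 x w) : w * w = 1 := by
  obtain ⟨K, hK, L, hL, hne, s, hs, t, ht, si, ti, rfl⟩ := h
  calc s * t * (s * t) = s * (t * s) * t := by group
    _ = s * s * (t * t) := by rw [← C.comm hK hL hne s hs t ht]; group
    _ = 1 := by rw [si.2, ti.2, one_mul]

theorem cfix (hu : ∀ {x y : X} {w : G}, C.S2 x w → C.S2 y w → x = y) {x : X} {w g : G}
    (hx : C.S2 x w) (h : g * w = w * g) : g • x = x := by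
  have := s2_conj hx g
  rw [h, mul_inv_cancel_right] at this
  exact hu this hx

theorem moved (hA : C.HA) (hu : ∀ {x y : X} {w : G}, C.S2 x w → C.S2 y w → x = y)
    {x y : X} {w : G} (hx : C.S2 x w) (hne : x ≠ y) {L : Subgroup G} (hL : L ∈ C.Cp y) :
    cj w L ≠ L := fun e => by
  obtain ⟨t, ht, ti, c⟩ := exists_inv_cent (C.ss hL).even (s2_sq hx) e
  exact hne (hA hL ht ti (cfix hu hx c))

end A2

open A2

theorem HA.s2_fix (hA : C.HA) (hu : ∀ {x y : X} {w : G}, C.S2 x w → C.S2 y w → x = y)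
    {x y : X} {w : G} (hx : C.S2 x w) (hy : w • y = y) : y = x := by
  by_contra hne
  have hne' : x ≠ y := fun e => hne e.symm
  have mv : ∀ L ∈ C.Cp y, cj w L ≠ L := fun L hL => moved hA hu hx hne' hL
  have rr : ∀ L ∈ C.Cp y, ∀ s ∈ L, s * (w * s * w⁻¹) ∈ C.N y ∧
      (∀ m ∈ C.N x ⊓ C.N y, s * (w * s * w⁻¹) * m * (s * (w * s * w⁻¹))⁻¹ ∈ C.N x ⊓ C.N y) ∧
      ∀ k ∈ L, s * (w * s * w⁻¹) * k * (s * (w * s * w⁻¹))⁻¹ = s * k * s⁻¹ := fun L hL s hs => by
    obtain ⟨d1, d2, d3⟩ := C.diag hL hy (s2_sq hx) (mv L hL) hs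
    exact ⟨d1, fun m hm => ⟨C.conjN (cfix hu hx d2.symm) hm.1, C.conjN (C.fix d1) hm.2⟩, d3⟩
  have bot : ∀ L ∈ C.Cp y, ∀ a ∈ L, a ∈ C.N x ⊓ C.N y → a = 1 := fun L hL a ha hD => by
    rcases (C.sim hL).simp (L ⊓ (C.N x ⊓ C.N y)) inf_le_left (fun k hk m hm =>
      ⟨conj_mem (cj_self hk) hm.1, by
        rw [← (rr L hL k hk).2.2 m hm.1]; exact (rr L hL k hk).2.1 m hm.2⟩) with e | e
    · exact mem_bot.1 (e ▸ ⟨ha, hD⟩)
    · exact absurd (hA.c0 hL fun k hk => C.fix (e.ge hk).2.1) hne'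
  obtain ⟨d, d1, dx, dy⟩ := C.dne hne'
  obtain ⟨L, hL, s, hs, ds⟩ : ∃ L ∈ C.Cp y, ∃ s ∈ L, d * s ≠ s * d := by
    by_contra! h
    exact d1 (C.cen (C.fix dy) h)
  have hL' : cj w L ∈ C.Cp y := C.cjC' hy hL
  have cm := C.comm hL hL' (mv L hL).symm
  let M : Subgroup G :=
    { carrier := {a | a ∈ L ∧ ∃ b ∈ cj w L, a * b ∈ C.N x ⊓ C.N y}
      one_mem' := ⟨one_mem _, 1, one_mem _, by rw [mul_one]; exact one_mem _⟩
      mul_mem' := by
        rintro a a' ⟨ha, b, hb, h⟩ ⟨ha', b', hb', h'⟩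
        refine ⟨mul_mem ha ha', b * b', mul_mem hb hb', ?_⟩
        have : a * a' * (b * b') = a * b * (a' * b') := by
          calc a * a' * (b * b') = a * (a' * b) * b' := by group
            _ = _ := by rw [cm a' ha' b hb]; group
        rw [this]; exact mul_mem h h'
      inv_mem' := by
        rintro a ⟨ha, b, hb, h⟩
        refine ⟨inv_mem ha, b⁻¹, inv_mem hb, ?_⟩
        rw [← mul_inv_rev, ← cm a ha b hb]; exact inv_mem h }
  rcases (C.sim hL).simp M (fun _ h => h.1) (by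
    rintro k hk a ⟨ha, b, hb, h⟩
    obtain ⟨r1, r2, r3⟩ := rr L hL k hk
    refine ⟨mul_mem (mul_mem hk ha) (inv_mem hk), _, conj_mem (C.nrm r1 hL') hb, ?_⟩
    rw [← r3 a ha, conj_mul]
    exact r2 _ h) with e | e
  · obtain ⟨r1, r2, -⟩ := rr L hL s hs
    have hs' : w * s * w⁻¹ ∈ cj w L := cj_mem hs
    have m : d * s * d⁻¹ * s⁻¹ ∈ M := by
      refine ⟨mul_mem (conj_mem (C.nrm dy hL) hs) (inv_mem hs), _,
        mul_mem (conj_mem (C.nrm dy hL') hs') (inv_mem hs'), ?_⟩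
      have := mul_mem (show d ∈ C.N x ⊓ C.N y from ⟨dx, dy⟩) (r2 _ (inv_mem ⟨dx, dy⟩))
      rw [mul_assoc, cm _ (inv_mem hs) _ (mul_mem (conj_mem (C.nrm dy hL') hs') (inv_mem hs'))]
      convert this using 1
      group
    rw [e, mem_bot, mul_inv_eq_one, mul_inv_eq_iff_eq_mul] at m
    exact ds m
  · obtain ⟨a, ha, ai⟩ := exists_inv_of_even (C.ss hL).even
    obtain ⟨-, b, hb, h⟩ := e.ge ha
    have b2 : b * b = 1 := bot _ hL' _ (mul_mem hb hb) (by
      have : b * b = a * b * (a * b) := by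
        calc b * b = a * a * (b * b) := by rw [ai.2, one_mul]
          _ = a * (a * b) * b := by group
          _ = a * (b * a) * b := by rw [cm a ha b hb]
          _ = _ := by group
      rw [this]; exact mul_mem h h)
    have b1 : b ≠ 1 := fun e => ai.1 (bot L hL a ha (by simpa [e] using h))
    obtain ⟨K, hK, -⟩ := C.two_c x
    exact moved hA hu ⟨L, hL, _, hL', (mv L hL).symm, a, ha, b, hb, ai, ⟨b1, b2⟩, rfl⟩ hne hK
      (C.nrm h.1 hK)

end H98.ON2.Cs
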