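import Cfsg.Agent.Lib.ON2.SY

set_option autoImplicit false
set_option linter.unusedSectionVars false

namespace H98.ON2.Cs

open Subgroup

variable {G X : Type*} [Group G] [Finite G] [MulAction G X] [Finite X] {C : Cs G X}

theorem C0.U_ne (h0 : C.C0) {x y : X} {K L : Subgroup G} (hK : K ∈ C.Cp x) (hL : L ∈ C.Cp y)
    (hne : y ≠ x) : U K L ≠ K := fun e =>
  hne (h0 hK fun _ hk => Ub.fix h0.ub hL (mem_U.1 (e.ge hk)).2)

theorem C0.ne (h0 : C.C0) {x y : X} {K L : Subgroup G} (hK : K ∈ C.Cp x) (hL : L ∈ C.Cp y)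
    (hne : y ≠ x) : K ≠ L := fun e => hne (h0.ub hL (e ▸ hK))

theorem C0.exists_pair (h0 : C.C0) (hT : C.TI) (hA : ¬ C.HA) :
    ∃ (x y : X) (K L : Subgroup G), K ∈ C.Cp x ∧ L ∈ C.Cp y ∧ K ≠ L ∧ U K L ≠ K ∧
      Even (Nat.card (U K L)) := by
  unfold HA at hA
  push Not at hA
  obtain ⟨x, y, K, t, hK, ht, ti, ty, hne⟩ := hA
  obtain ⟨L, hL, e⟩ : ∃ L ∈ C.Cp y, cj t L = L := by
    by_contra! mv
    obtain ⟨g, gx, gy⟩ := C.tr.two hne.symm hne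
    have hL := C.cjC' gx hK
    rcases (C.sim hL).simp (cj g K ⊓ MulAction.stabilizer G x) inf_le_left (fun s hs m hm => by
      obtain ⟨-, d2, d3⟩ := C.diag hL ty ti.2 (mv _ hL) hs
      have rx := Ub.fix h0.ub hK (Ti.norm_of_comm (T := C.ti hT) ⟨x, hK⟩ ht ti.1 d2.symm)
      refine ⟨conj_mem (cj_self hs) hm.1, ?_⟩
      rw [← d3 m hm.1]
      exact conj_mem (cj_self (MulAction.mem_stabilizer_iff.2 rx)) hm.2) with e | e
    · have : g * t * g⁻¹ ∈ cj g K ⊓ MulAction.stabilizer G x :=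
        ⟨cj_mem ht, by rw [← gy]; simp [mul_smul, ty]⟩
      rw [e] at this
      exact (ti.conj g).1 this
    · exact hne.symm (h0 hL fun k hk => (e.ge hk).2)
  exact ⟨x, y, K, L, hK, hL, h0.ne hK hL hne, h0.U_ne hK hL hne,
    even_of_inv (mem_U.2 ⟨ht, e⟩) ti⟩

namespace B1

theorem cen {T : Ti G} {A B : Subgroup G} (h : T.Sy A B) {v c : G} (hv : v ∈ U B A) (v1 : v ≠ 1)
    (cA : ∀ a ∈ A, c * a = a * c) (cv : c * v = v * c) : ∀ v' ∈ U B A, c * v' = v' * c := by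
  intro v' hv'
  have nB := Ti.norm_of_comm h.memB (U_le _ _ hv) v1 cv
  have nV : cj c (U B A) = U B A := by rw [cj_U, nB, cj_eq_of_comm cA]
  have := Ti.eq_one_of_cent h.memA h.memB h.ne h.prop (mul_mem (conj_mem nV hv') (inv_mem hv'))
    fun a ha => by
      have e := cA _ (conj_mem (mem_U.1 (inv_mem hv')).2 ha)
      calc c * v' * c⁻¹ * v'⁻¹ * a = c * v' * (c⁻¹ * (v'⁻¹ * a * v'⁻¹⁻¹ * c)) * c⁻¹ * v'⁻¹ := by
            group
        _ = (c * a) * v' * c⁻¹ * v'⁻¹ := by rw [← e]; group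
        _ = _ := by rw [cA a ha]; group
  exact mul_inv_eq_iff_eq_mul.1 (mul_inv_eq_one.1 this)

theorem nrm (h0 : C.C0) (hT : C.TI) {x y : X} {A A' B : Subgroup G} (h : (C.ti hT).Sy A B)
    (hA : A ∈ C.Cp x) (hA' : A' ∈ C.Cp x) (hB : B ∈ C.Cp y) (hne : y ≠ x) (n : A' ≠ A) {v : G}
    (hv : v ∈ U B A) (vi : Inv v) : cj v A' = A' := by
  by_contra mv
  have fx : ∀ w ∈ U B A, w • x = x := fun w hw => Ub.fix h0.ub hA (mem_U.1 hw).2
  have hA'' := C.cjC' (fx v hv) hA'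
  have n' : cj v A' ≠ A := fun e => n (cj_inj.1 (e.trans (mem_U.1 hv).2.symm))
  have rV : ∀ s ∈ A', ∀ w ∈ U B A, s * (v * s * v⁻¹) * w = w * (s * (v * s * v⁻¹)) :=
    fun s hs => cen h hv vi.1 (fun a ha => by
      rw [mul_assoc, C.comm hA'' hA n' _ (cj_mem hs) a ha, ← mul_assoc, C.comm hA' hA n s hs a ha,
        mul_assoc]) (C.diag hA' (fx v hv) vi.2 mv hs).2.1.symm
  have fin : ∀ w ∈ U B A, w ≠ 1 → w * v = v * w → cj w A' ≠ A' := fun w hw w1 c e => by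
    refine hne (h0 hA' fun s hs => Ub.fix h0.ub hB
      (Ti.norm_of_comm h.memB (U_le _ _ hw) w1 ?_))
    have e' : cj w (cj v A') = cj v A' := by rw [← cj_mul, c, cj_mul, e]
    have k : s⁻¹ * (w * s * w⁻¹) = v * s * v⁻¹ * (w * (v * s * v⁻¹) * w⁻¹)⁻¹ := by
      calc s⁻¹ * (w * s * w⁻¹) = s⁻¹ * (w * (s * (v * s * v⁻¹))) * w⁻¹ *
            (w * (v * s * v⁻¹) * w⁻¹)⁻¹ := by group
        _ = _ := by rw [← rV s hs w hw]; group
    have := C.disj hA' hA'' (Ne.symm mv) (mul_mem (inv_mem hs) (conj_mem e hs))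
      (k ▸ mul_mem (cj_mem hs) (inv_mem (conj_mem e' (cj_mem hs))))
    rw [inv_mul_eq_one, eq_mul_inv_iff_mul_eq] at this
    exact this
  obtain ⟨w, hw, wi, wv, c⟩ := (C.ss hB).comm_inv (U_le _ _ hv) vi
  have hw' : w ∈ U B A := (h.symm.cent hv vi hw).1 c
  have m1 := fin w hw' wi.1 c
  have m2 := fin (w * v) (mul_mem hw' hv) (wi.mul vi wv c).1 (by rw [c, mul_assoc, c])
  rw [cj_mul] at m2
  refine (C.ss hA').ne (eq_bot_iff.2 fun s hs => (C.ss hA').zc s hs fun a ha => ?_)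
  have d := (C.diag hA' (fx v hv) vi.2 mv hs).2.2 a ha
  have e : s * (v * s * v⁻¹) = w * s * w⁻¹ * (w * (v * s * v⁻¹) * w⁻¹) := by
    rw [conj_mul, ← rV s hs w hw', mul_inv_cancel_right]
  have c1 := C.comm (C.cjC' (fx w hw') hA') hA' m1 _ (cj_mem hs) a ha
  have c2 := C.comm (C.cjC' (fx w hw') hA'') hA' m2 _ (cj_mem (cj_mem hs)) a ha
  have c3 : s * (v * s * v⁻¹) * a = a * (s * (v * s * v⁻¹)) := by
    rw [e, mul_assoc, c2, ← mul_assoc, c1, mul_assoc]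
  rw [c3, mul_inv_cancel_right] at d
  exact mul_inv_eq_iff_eq_mul.1 d.symm

end B1

theorem C0.ne_of_sy {hT : C.TI} {x y : X} {A B : Subgroup G} (h : (C.ti hT).Sy A B)
    (hA : A ∈ C.Cp x) (hB : B ∈ C.Cp y) : y ≠ x := by
  rintro rfl
  exact h.prop (le_antisymm (U_le _ _) fun a ha =>
    mem_U.2 ⟨ha, cj_eq_of_comm (C.comm hA hB h.ne a ha)⟩)

theorem C0.sy_prop (h0 : C.C0) (hT : C.TI) {x : X} {A A' B : Subgroup G}
    (h : (C.ti hT).Sy A B) (hA : A ∈ C.Cp x) (hA' : A' ∈ C.Cp x) :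
    (C.ti hT).Sy A' B ∧ ∀ v ∈ U B A, Inv v → v ∈ U B A' := by
  by_cases n : A' = A
  · subst n; exact ⟨h, fun v hv _ => hv⟩
  obtain ⟨y, hB⟩ := h.memB
  have hne := C0.ne_of_sy h hA hB
  have k : ∀ v ∈ U B A, Inv v → v ∈ U B A' := fun v hv vi =>
    mem_U.2 ⟨U_le _ _ hv, B1.nrm h0 hT h hA hA' hB hne n hv vi⟩
  refine ⟨Ti.Sy.symm ⟨h.memB, ⟨x, hA'⟩, h0.ne hB hA' hne.symm, h0.U_ne hB hA' hne.symm, ?_⟩, k⟩
  obtain ⟨v, hv, vi⟩ := h.symm.exists_inv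
  have mA : A' ∈ (C.ti hT).K := ⟨x, hA'⟩
  have ne := h0.ne hA' hB hne
  obtain ⟨u, hu, ui⟩ : ∃ u ∈ U A' B, Inv u := exists_inv_of_even (by
    rw [Ti.card_U mA h.memB ne]; exact even_of_inv (k v hv vi) vi)
  have := B1.cen h hv vi.1 (C.comm hA' hA n u (U_le _ _ hu)) (Ti.U_comm mA h.memB ne hu (k v hv vi))
  exact h.symm.odd.of_dvd_nat (relIndex_dvd_of_le_left _ fun w hw =>
    (Ti.cent_iff h.memB mA ne.symm hu ui.1 (U_le _ _ hw)).1 (this w hw).symm)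

end H98.ON2.Cs
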