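import Cfsg.Agent.Lib.ON2.B1

set_option autoImplicit false
set_option linter.unusedSectionVars false

namespace H98.ON2.Cs

open Subgroup

variable {G X : Type*} [Group G] [Finite G] [MulAction G X] [Finite X] {C : Cs G X}

theorem C0.not_sy (h0 : C.C0) (hT : C.TI) {A B : Subgroup G} (h : (C.ti hT).Sy A B) : False := by
  obtain ⟨x, hx⟩ := h.memA
  obtain ⟨y, hB⟩ := h.memB
  have xy := (C0.ne_of_sy h hx hB).symm
  have all : ∀ {p q : X} {K L : Subgroup G}, p ≠ q → K ∈ C.Cp p → L ∈ C.Cp q →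
      (C.ti hT).Sy K L := fun hne hK hL => by
    obtain ⟨g, g1, g2⟩ := C.tr.two xy hne
    exact (h0.sy_prop hT (h0.sy_prop hT (h.conj g) (C.cjC' g1 hx) hK).1.symm (C.cjC' g2 hB) hL).1.symm
  have Q : ∀ {p q : X} {K L : Subgroup G} {v : G}, p ≠ q → K ∈ C.Cp p → L ∈ C.Cp q →
      v ∈ U L K → Inv v → v ∈ C.N p := fun hne hK hL hv vi =>
    C.inner_mem (Ub.fix h0.ub hK (mem_U.1 hv).2) fun K' hK' => by
      obtain ⟨s1, s2⟩ := h0.sy_prop hT (all hne hK hL) hK hK'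
      obtain ⟨u, hu, -, e⟩ := s1.inner (s2 _ hv vi) vi
      exact ⟨u, U_le _ _ hu, e⟩
  have Lm : ∀ {p q : X} {K L : Subgroup G} {s a : G}, p ≠ q → K ∈ C.Cp p → L ∈ C.Cp q →
      s ∈ C.N p → s ∈ C.N q → s * s = 1 → (¬ ∀ k ∈ K, s * k = k * s) → a ∈ K →
      (a * s = s * a ↔ a ∈ U K L) := by
    intro p q K L s a hne hK hL sp sq s2 n ha
    obtain ⟨u, hu, e⟩ := C.pr sp hK
    have c : ∀ k ∈ K, s * k = k * s ↔ u * k = k * u := fun k hk => by
      rw [← mul_inv_eq_iff_eq_mul, e k hk, mul_inv_eq_iff_eq_mul]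
    have u2 : u * u = 1 := (C.ss hK).zc _ (mul_mem hu hu) fun k hk => by
      have e1 := e _ (conj_mem (C.nrm sp hK) hk)
      rw [show s * (s * k * s⁻¹) * s⁻¹ = s * s * k * (s * s)⁻¹ by group, s2, e k hk] at e1
      rw [← mul_inv_eq_iff_eq_mul]
      calc u * u * k * (u * u)⁻¹ = u * (u * k * u⁻¹) * u⁻¹ := by group
        _ = k := by rw [← e1]; group
    have u1 : u ≠ 1 := fun e1 => n fun k hk => (c k hk).2 (by simp [e1])
    have S := all hne hK hL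
    have nU : cj s (U K L) = U K L := by rw [cj_U, C.nrm sp hK, C.nrm sq hL]
    have hu' := mem_of_odd (U_le K L) S.odd hu u2 (cj_eq_of_le fun m hm => by
      rw [← e m (U_le _ _ hm)]; exact conj_mem nU hm)
    rw [← S.cent hu' ⟨u1, u2⟩ ha, eq_comm, c a ha, eq_comm]
  have nc : ∀ {K L : Subgroup G} {v : G}, (C.ti hT).Sy K L → v ∈ U L K → Inv v →
      ¬ ∀ k ∈ K, v * k = k * v := fun S hv vi c =>
    vi.1 (Ti.eq_one_of_cent S.memA S.memB S.ne S.prop hv c)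
  obtain ⟨A1, h1, A2, h2, n⟩ := C.two_c x
  have S1 := all xy h1 hB
  have S2 := all xy h2 hB
  obtain ⟨g, hg, m, hm, gm⟩ : ∃ g ∈ A2, ∃ m ∈ U A2 B, g * m * g⁻¹ ∉ U A2 B := by
    by_contra! k
    rcases (C.sim h2).simp _ (U_le A2 B) k with e | e
    · obtain ⟨u, hu, ui⟩ := S2.exists_inv
      exact ui.1 (mem_bot.1 (e ▸ hu))
    · exact S2.prop e
  have xz : x ≠ g • y := fun e => xy (smul_left_cancel g ((C.kfix h2 hg).trans e))
  have hB' := C.cjC g hB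
  obtain ⟨u, hu, ui⟩ := S1.exists_inv
  obtain ⟨v, hv, vi⟩ := S1.symm.exists_inv
  have uy := Q xy.symm hB h1 hu ui
  have uz : u ∈ C.N (g • y) := by
    have := C.conjN (rfl : g • y = g • y) uy
    rwa [← C.comm h1 h2 n u (U_le _ _ hu) g hg, mul_inv_cancel_right] at this
  have vx := Q xy h1 hB hv vi
  have vy := C.le hB (U_le _ _ hv)
  have vz : v ∈ C.N (g • y) := by
    by_cases e : y = g • y
    · exact e ▸ vy
    exact Q (Ne.symm e) hB' hB ((Lm e hB hB' uy uz ui.2 (nc S1.symm hu ui) (U_le _ _ hv)).1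
      (Ti.U_comm S1.memA S1.memB S1.ne hu hv).symm) vi
  have v2 := nc S2 ((h0.sy_prop hT S1 h1 h2).2 v hv vi) vi
  have m2 : g * m * g⁻¹ ∈ U A2 (cj g B) := by
    have := cj_mem (g := g) hm
    rwa [cj_U, cj_self hg] at this
  exact gm ((Lm xy h2 hB vx vy vi.2 v2 (U_le _ _ m2)).1
    ((Lm xz h2 hB' vx vz vi.2 v2 (U_le _ _ m2)).2 m2))

end H98.ON2.Cs
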