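import Cfsg.Agent.Lib.ON2.Defs
import Cfsg.Agent.Lib.TwoFusion.ZStarIso
import Cfsg.Agent.S0205

set_option autoImplicit false
set_option linter.unusedSectionVars false

namespace H98.ON2

open Subgroup

/-- Subgroups, with the conjugation action `g • K = cj g K`. -/
def Sg (G : Type*) [Group G] := Subgroup G

instance {G : Type*} [Group G] : MulAction G (Sg G) where
  smul g K := cj g K
  one_smul := cj_one
  mul_smul := cj_mul

theorem Sg.smul_def {G : Type*} [Group G] (g : G) (K : Sg G) : g • K = cj g K := rfl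

instance {G : Type*} [Group G] [Finite G] : Finite (Sg G) := inferInstanceAs (Finite (Subgroup G))

section grp

variable {G : Type*} [Group G] [Finite G] {K L A M : Subgroup G} {t u v w b : G}

theorem Inv.conj (h : Inv t) (g : G) : Inv (g * t * g⁻¹) := ⟨fun e => h.1 (by simpa using congrArg (fun a => g⁻¹ * a * g) e |>.trans (by simp) |> fun e' => by simpa [mul_assoc] using e'), by
    calc g * t * g⁻¹ * (g * t * g⁻¹) = g * (t * t) * g⁻¹ := by group
      _ = 1 := by rw [h.2]; group⟩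

theorem Inv.inv_eq (h : Inv t) : t⁻¹ = t := inv_eq_of_mul_eq_one_right h.2

theorem Inv.mul (h : Inv t) (h' : Inv u) (hne : t ≠ u) (hc : t * u = u * t) : Inv (t * u) := by
  refine ⟨fun e => hne ?_, ?_⟩
  · rw [← h.inv_eq]; exact inv_eq_of_mul_eq_one_right e
  · calc t * u * (t * u) = t * (u * t) * u := by group
      _ = (t * t) * (u * u) := by rw [← hc]; group
      _ = 1 := by rw [h.2, h'.2, one_mul]

theorem exists_inv_of_even (h : Even (Nat.card K)) : ∃ t ∈ K, Inv t := by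
  haveI : Fact (Nat.Prime 2) := ⟨Nat.prime_two⟩
  obtain ⟨a, ha⟩ := exists_prime_orderOf_dvd_card' (G := K) 2 (even_iff_two_dvd.1 h)
  refine ⟨a, a.2, fun e => ?_, ?_⟩
  · rw [show a = 1 from Subtype.ext e] at ha; simp at ha
  · have := pow_orderOf_eq_one a
    rw [ha, pow_two] at this
    exact congrArg Subtype.val this

theorem even_of_inv (ht : t ∈ K) (h : Inv t) : Even (Nat.card K) := by
  have : orderOf t = 2 := orderOf_eq_prime (by rw [pow_two, h.2]) h.1
  exact even_iff_two_dvd.2 (this ▸ K.orderOf_dvd_natCard ht)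

theorem not_solv (h1 : K ≠ ⊥) (h2 : ⁅K, K⁆ = K) : ¬ Group.IsSolvable K := by
  intro h
  haveI : Nontrivial K := (nontrivial_iff_ne_bot K).2 h1
  refine (IsSolvable.commutator_lt_top_of_nontrivial K).ne ?_
  apply map_injective K.subtype_injective
  rw [commutator_def, map_commutator, ← MonoidHom.range_eq_map, range_subtype, h2]

theorem Sim.ss (h : Sim K) : Ss K := by
  obtain ⟨a, ha, c, hc, hac⟩ := h.nab
  have hne : K ≠ ⊥ := by
    rintro rfl
    rw [mem_bot] at ha; subst ha; simp at hac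
  have hperf : ⁅K, K⁆ = K := by
    refine (h.simp _ (commutator_le.2 fun x hx y hy => ?_) fun k hk m hm => ?_).resolve_left
      fun e => hac ?_
    · rw [commutatorElement_def]
      exact mul_mem (mul_mem (mul_mem hx hy) (inv_mem hx)) (inv_mem hy)
    · have e : cj k ⁅K, K⁆ = ⁅K, K⁆ := by
        have := map_commutator K K (MulAut.conj k).toMonoidHom
        rw [show K.map (MulAut.conj k).toMonoidHom = K from cj_self hk] at this
        exact this
      exact conj_mem e hm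
    · have := commutator_mem_commutator ha hc
      rw [e, mem_bot, commutatorElement_eq_one_iff_mul_comm] at this
      exact this
  refine ⟨hne, hperf, fun z hz hzc => ?_, fun O hO hn ho => ?_⟩
  · rcases h.simp (K ⊓ centralizer (K : Set G)) inf_le_left (fun k hk m hm => by
      have : k * m * k⁻¹ = m := by rw [hm.2 k hk]; group
      rwa [this]) with e | e
    · exact (mem_bot.1 (e ▸ (⟨hz, fun a ha => (hzc a ha).symm⟩ : z ∈ K ⊓ centralizer (K : Set G))))
    · exact (hac ((e.ge hc).2 a ha)).elim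
  · refine (h.simp O hO hn).resolve_right fun e => ?_
    subst e
    exact not_solv hne hperf (Cfsg.Agent.S0205.result ho)

theorem Ss.even (h : Ss K) : Even (Nat.card K) := by
  by_contra ho
  exact not_solv h.ne h.perf (Cfsg.Agent.S0205.result (Nat.not_even_iff_odd.1 ho))

theorem Ss.not_solvable (h : Ss K) : ¬ Group.IsSolvable K := not_solv h.ne h.perf

theorem Ss.le_of_comm (h : Ss K) (hM : ∀ a ∈ K, ∀ c ∈ K, a * c * a⁻¹ * c⁻¹ ∈ M) : K ≤ M := by
  rw [← h.perf]
  exact commutator_le.2 fun x hx y hy => hM x hx y hy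

/-- Z* for an involution normalising `K`. -/
theorem Ss.zstar (h : Ss K) (hv : Inv v) (hn : cj v K = K)
    (iso : ∀ g ∈ K, g * v * g⁻¹ * v = v * (g * v * g⁻¹) → g * v * g⁻¹ = v) :
    ∀ k ∈ K, v * k = k * v := by
  intro k hk
  let M : Subgroup G :=
    { carrier := {g | g ∈ K ∨ g * v ∈ K}
      one_mem' := .inl (one_mem _)
      mul_mem' := by
        rintro a c (ha | ha) (hc | hc)
        · exact .inl (mul_mem ha hc)
        · exact .inr (by simpa [mul_assoc] using mul_mem ha hc)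
        · refine .inr ?_
          have := mul_mem ha (conj_mem hn hc)
          rwa [hv.inv_eq, show a * v * (v * c * v) = a * (v * v) * c * v by group, hv.2,
            mul_one] at this
        · refine .inl ?_
          have := mul_mem ha (conj_mem hn hc)
          rwa [show a * v * (v * (c * v) * v⁻¹) = a * (v * v) * c by group, hv.2, mul_one] at this
      inv_mem' := by
        rintro a (ha | ha)
        · exact .inl (inv_mem ha)
        · refine .inr ?_
          have := conj_mem hn (inv_mem ha)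
          rwa [show v * (a * v)⁻¹ * v⁻¹ = a⁻¹ * v⁻¹ by group, hv.inv_eq] at this }
  have hvM : v ∈ M := .inr (by rw [hv.2]; exact one_mem _)
  obtain ⟨N, hN, ho, hc⟩ := H41.Isolated.zstar_exists (z := (⟨v, hvM⟩ : M))
    ⟨orderOf_eq_prime (Subtype.ext (by rw [sq]; exact hv.2)) (fun e => hv.1 (congrArg Subtype.val e)),
      fun g e => Subtype.ext (by
        have e' : v * (g.1 * v * g.1⁻¹) = g.1 * v * g.1⁻¹ * v := congrArg Subtype.val e
        show g.1 * v * g.1⁻¹ = v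
        rcases g.2 with hg | hg
        · exact iso _ hg e'.symm
        · have e2 : g.1 * v * v * (g.1 * v)⁻¹ = g.1 * v * g.1⁻¹ := by group
          rw [← e2] at e' ⊢
          exact iso _ hg e'.symm)⟩
  have h0 : N.map M.subtype ⊓ K = ⊥ := by
    refine h.noodd _ inf_le_right (fun a ha m hm => ⟨?_, K.mul_mem (K.mul_mem ha hm.2) (K.inv_mem ha)⟩) ?_
    · obtain ⟨m', hm', rfl⟩ := hm.1
      exact ⟨_, hN.conj_mem m' hm' ⟨a, .inl ha⟩, rfl⟩
    · refine Odd.of_dvd_nat ?_ (card_dvd_of_le (inf_le_left (a := N.map M.subtype)))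
      rwa [card_map_of_injective M.subtype_injective]
  have h1 : v * k * v⁻¹ * k⁻¹ ∈ N.map M.subtype ⊓ K :=
    ⟨⟨_, hc ⟨k, .inl hk⟩, rfl⟩, K.mul_mem (conj_mem hn hk) (K.inv_mem hk)⟩
  rw [h0, mem_bot] at h1
  calc v * k = v * k * v⁻¹ * k⁻¹ * (k * v) := by group
    _ = k * v := by rw [h1, one_mul]

theorem Ss.comm_inv (h : Ss K) (ht : t ∈ K) (hi : Inv t) :
    ∃ a ∈ K, Inv a ∧ a ≠ t ∧ a * t = t * a := by
  by_contra! hn
  refine hi.1 (h.zc t ht (h.zstar hi (cj_self ht) fun g hg e => ?_))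
  by_contra hne
  exact hn _ (mul_mem (mul_mem hg ht) (inv_mem hg)) (hi.conj g) hne e

theorem exists_inv_cent (hK : Even (Nat.card K)) (hw : w * w = 1) (hn : cj w K = K) :
    ∃ t ∈ K, Inv t ∧ t * w = w * t := by
  haveI : Fact (Nat.Prime 2) := ⟨Nat.prime_two⟩
  let f : K → K := fun a => ⟨w * a * w⁻¹, conj_mem hn a.2⟩
  have hf : f^[2 ^ 1] = id := by
    funext a
    apply Subtype.ext
    show w * (w * a * w⁻¹) * w⁻¹ = a
    calc w * (w * a * w⁻¹) * w⁻¹ = (w * w) * a * (w * w)⁻¹ := by group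
      _ = a := by rw [hw]; group
  classical
  haveI := Fintype.ofFinite K
  have h1 := Equiv.Perm.card_fixedPoints_modEq (f := f) hf
  let e : f.fixedPoints ≃ ↥(K ⊓ centralizer {w}) :=
    { toFun := fun a => ⟨a.1.1, a.1.2, mem_centralizer_singleton_iff.2 (by
        have : w * a.1.1 * w⁻¹ = a.1.1 := congrArg Subtype.val a.2
        rw [← this]; simp only [mul_assoc, inv_mul_cancel, mul_one]; rw [← mul_assoc, ← mul_assoc]
        rw [show w * w * a.1.1 = a.1.1 by rw [hw, one_mul]]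
        calc w * a.1.1 = w * (w * a.1.1 * w⁻¹) := by rw [this]
          _ = (w * w) * a.1.1 * w⁻¹ := by group
          _ = a.1.1 * w⁻¹ := by rw [hw, one_mul])⟩
      invFun := fun a => ⟨⟨a.1, a.2.1⟩, Subtype.ext (by
        show w * a.1 * w⁻¹ = a.1
        rw [← mem_centralizer_singleton_iff.1 a.2.2]; group)⟩
      left_inv := fun _ => rfl
      right_inv := fun _ => rfl }
  have h2 : Even (Nat.card ↥(K ⊓ centralizer {w})) := by
    rw [← Nat.card_congr e, Nat.card_eq_fintype_card, even_iff_two_dvd]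
    rw [Nat.card_eq_fintype_card, even_iff_two_dvd] at hK
    exact (h1.dvd_iff dvd_rfl).1 hK
  obtain ⟨t, ht, hi⟩ := exists_inv_of_even h2
  exact ⟨t, ht.1, hi, mem_centralizer_singleton_iff.1 ht.2⟩

theorem mem_of_odd (hM : M ≤ A) (ho : Odd (M.relIndex A)) (hu : u ∈ A) (h2 : u * u = 1)
    (hn : cj u M = M) : u ∈ M := by
  by_contra hn'
  have hui : u⁻¹ = u := inv_eq_of_mul_eq_one_right h2
  let P : Subgroup G :=
    { carrier := {g | g ∈ M ∨ g * u ∈ M}
      one_mem' := .inl (one_mem _)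
      mul_mem' := by
        rintro a c (ha | ha) (hc | hc)
        · exact .inl (mul_mem ha hc)
        · exact .inr (by simpa [mul_assoc] using mul_mem ha hc)
        · refine .inr ?_
          have := mul_mem ha (conj_mem hn hc)
          rwa [hui, show a * u * (u * c * u) = a * (u * u) * c * u by group, h2,
            mul_one] at this
        · refine .inl ?_
          have := mul_mem ha (conj_mem hn hc)
          rwa [show a * u * (u * (c * u) * u⁻¹) = a * (u * u) * c by group, h2, mul_one] at this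
      inv_mem' := by
        rintro a (ha | ha)
        · exact .inl (inv_mem ha)
        · refine .inr ?_
          have := conj_mem hn (inv_mem ha)
          rwa [show u * (a * u)⁻¹ * u⁻¹ = a⁻¹ * u⁻¹ by group, hui] at this }
  have hMP : M ≤ P := fun a ha => .inl ha
  have hPA : P ≤ A := by
    rintro a (ha | ha)
    · exact hM ha
    · exact (mul_mem_cancel_right hu).1 (hM ha)
  have h3 : M.relIndex P = 2 := by
    refine relIndex_eq_two_iff.2 ⟨u, .inr (by rw [h2]; exact one_mem _), fun c hc => ?_⟩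
    rcases hc with hc | hc
    · exact .inr ⟨hc, fun e => hn' ((mul_mem_cancel_left hc).1 e)⟩
    · exact .inl ⟨hc, fun e => hn' ((mul_mem_cancel_left e).1 hc)⟩
  have := relIndex_mul_relIndex M P A hMP hPA
  rw [h3] at this
  exact Nat.not_even_iff_odd.2 ho ⟨P.relIndex A, by omega⟩

/-- A perfect group fixes every point of an invariant set of at most three points. -/
theorem Ss.fix_of_small (h : Ss K) {Y : Type*} [MulAction G Y] {S : Set Y} (hS : S.Finite)
    (h3 : S.ncard ≤ 3) (hinv : ∀ k ∈ K, ∀ z ∈ S, k • z ∈ S) : ∀ k ∈ K, ∀ z ∈ S, k • z = z := by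
  haveI : Finite S := hS
  classical
  haveI := Fintype.ofFinite S
  let φ : K →* Equiv.Perm S :=
    { toFun := fun k =>
        { toFun := fun z => ⟨k.1 • z.1, hinv _ k.2 _ z.2⟩
          invFun := fun z => ⟨k.1⁻¹ • z.1, hinv _ (inv_mem k.2) _ z.2⟩
          left_inv := fun z => Subtype.ext (by simp)
          right_inv := fun z => Subtype.ext (by simp) }
      map_one' := by ext z; simp
      map_mul' := fun a c => by ext z; simp [mul_smul] }
  have hp : ∀ M : Subgroup K, (∀ a c : K, a * c * a⁻¹ * c⁻¹ ∈ M) → ∀ k : K, k ∈ M := by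
    intro M hM k
    have : K ≤ M.map K.subtype :=
      h.le_of_comm fun a ha c hc => ⟨_, hM ⟨a, ha⟩ ⟨c, hc⟩, rfl⟩
    obtain ⟨k', hk', e⟩ := this k.2
    rwa [← show k' = k from Subtype.ext e]
  have h1 : ∀ k : K, φ k ∈ alternatingGroup S := fun k =>
    hp ((alternatingGroup S).comap φ) (fun a c => by
      rw [mem_comap, Equiv.Perm.mem_alternatingGroup]
      simp only [map_mul, map_inv]
      rw [mul_inv_cancel_comm, mul_inv_cancel]) k
  have hc : Fintype.card S ≤ 3 := by rwa [← Nat.card_eq_fintype_card, Nat.card_coe_set_eq]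
  have hcyc : IsCyclic (alternatingGroup S) := by
    rcases subsingleton_or_nontrivial S with hs | hs
    · infer_instance
    · have h2 := two_mul_nat_card_alternatingGroup (α := S)
      rw [Nat.card_eq_fintype_card (α := Equiv.Perm S), Fintype.card_perm] at h2
      have h4 : 2 ≤ Fintype.card S := Fintype.one_lt_card
      rcases (by omega : Fintype.card S = 2 ∨ Fintype.card S = 3) with e | e
      · rw [e] at h2
        haveI := (Nat.card_eq_one_iff_unique.1 (by simpa using h2 : Nat.card (alternatingGroup S) = 1)).1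
        infer_instance
      · rw [e] at h2
        haveI : Fact (Nat.Prime 3) := ⟨Nat.prime_three⟩
        exact isCyclic_of_prime_card (p := 3) (by simp [Nat.factorial] at h2 ⊢; omega)
  intro k hk z hz
  have h5 : (⟨k, hk⟩ : K) ∈ φ.ker := hp φ.ker (fun a c => by
    obtain ⟨g, hg⟩ := hcyc.exists_generator
    obtain ⟨i, hi⟩ := hg ⟨_, h1 a⟩
    obtain ⟨j, hj⟩ := hg ⟨_, h1 c⟩
    have ea : φ a = g.1 ^ i := (congrArg Subtype.val hi).symm
    have ec : φ c = g.1 ^ j := (congrArg Subtype.val hj).symm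
    rw [MonoidHom.mem_ker, map_mul, map_mul, map_mul, map_inv, map_inv, ea, ec]
    group) _
  exact congrArg Subtype.val (DFunLike.congr_fun (MonoidHom.mem_ker.1 h5) ⟨z, hz⟩)

theorem Sim.onto (hA : Sim A) (hL : Sim L) (hc : Nat.card A = Nat.card L)
    (hin : ∀ a ∈ A, ∃ l ∈ L, ∀ k ∈ L, a * k * a⁻¹ = l * k * l⁻¹)
    (hn : ∃ a ∈ A, ∃ k ∈ L, a * k ≠ k * a) :
    ∀ l ∈ L, ∃ a ∈ A, ∀ k ∈ L, a * k * a⁻¹ = l * k * l⁻¹ := by
  choose f hf hf' using hin
  have uniq : ∀ l ∈ L, ∀ l' ∈ L, (∀ k ∈ L, l * k * l⁻¹ = l' * k * l'⁻¹) → l = l' := by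
    intro l hl l' hl' e
    have := hL.ss.zc (l'⁻¹ * l) (mul_mem (inv_mem hl') hl) fun k hk => by
      calc l'⁻¹ * l * k = l'⁻¹ * (l * k * l⁻¹) * l := by group
        _ = k * (l'⁻¹ * l) := by rw [e k hk]; group
    exact (inv_mul_eq_one.1 this).symm
  let Z : Subgroup G := A ⊓ centralizer (L : Set G)
  have hZ : Z = ⊥ := by
    refine (hA.simp Z inf_le_left fun a ha m hm => ⟨A.mul_mem (A.mul_mem ha hm.1) (A.inv_mem ha),
      fun k hk => ?_⟩).resolve_right fun e => ?_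
    · have h1 : a⁻¹ * k * a ∈ L := by
        have := hf' _ (inv_mem ha) k hk
        rw [inv_inv] at this
        rw [this]
        exact mul_mem (mul_mem (hf _ _) hk) (inv_mem (hf _ _))
      calc k * (a * m * a⁻¹) = a * (a⁻¹ * k * a * m) * a⁻¹ := by group
        _ = a * m * a⁻¹ * k := by rw [hm.2 _ h1]; group
    · obtain ⟨a, ha, k, hk, hak⟩ := hn
      exact hak ((e.ge ha).2 k hk).symm
  let F : A → L := fun a => ⟨f a a.2, hf _ _⟩
  have hinj : Function.Injective F := fun a c e => by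
    have e' : f a a.2 = f c c.2 := congrArg Subtype.val e
    have : c.1⁻¹ * a.1 ∈ Z := ⟨A.mul_mem (A.inv_mem c.2) a.2, fun k hk => by
      have h1 := hf' a a.2 k hk
      rw [e', ← hf' c c.2 k hk] at h1
      calc k * (c.1⁻¹ * a.1) = c.1⁻¹ * (c.1 * k * c.1⁻¹) * a.1 := by group
        _ = c.1⁻¹ * a.1 * k := by rw [← h1]; group⟩
    rw [hZ, mem_bot, inv_mul_eq_one] at this
    exact Subtype.ext this.symm
  have hsurj := ((Nat.bijective_iff_injective_and_card F).2 ⟨hinj, hc⟩).2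
  intro l hl
  obtain ⟨a, ha⟩ := hsurj ⟨l, hl⟩
  exact ⟨a, a.2, fun k hk => by rw [hf' a a.2 k hk, show f a a.2 = l from congrArg Subtype.val ha]⟩

theorem Ss.le_of_moved (h : Ss K) (hc : ∀ a ∈ K, ∀ a' ∈ cj b K, a * a' = a' * a)
    (hn : ∀ k ∈ K, cj k M = M) (hb : ∀ k ∈ K, k * b * k⁻¹ * b⁻¹ ∈ M) : K ≤ M := by
  refine h.le_of_comm fun a ha c hc' => ?_
  have h1 := mul_mem (hb a ha) (conj_mem (hn c hc') (inv_mem (hb a ha)))
  have h2 : b * a⁻¹ * b⁻¹ ∈ cj b K := cj_mem (inv_mem ha)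
  have e : a * b * a⁻¹ * b⁻¹ * (c * (a * b * a⁻¹ * b⁻¹)⁻¹ * c⁻¹) = a * c * a⁻¹ * c⁻¹ := by
    calc a * b * a⁻¹ * b⁻¹ * (c * (a * b * a⁻¹ * b⁻¹)⁻¹ * c⁻¹)
        = a * (b * a⁻¹ * b⁻¹ * c) * (b * a⁻¹ * b⁻¹)⁻¹ * a⁻¹ * c⁻¹ := by group
      _ = a * c * a⁻¹ * c⁻¹ := by rw [← hc c hc' _ h2]; group
  rwa [e] at h1

end grp

section act

variable {G X : Type*} [Group G] [Finite G] [MulAction G X] [Finite X]

theorem Tr.trans (h : Tr G X) (x y : X) : ∃ g : G, g • x = y := by
  have ex : ∀ x : X, ∃ y, y ≠ x := fun x => by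
    obtain ⟨a, b, hab⟩ := h.nt
    by_cases e : a = x
    · exact ⟨b, fun e' => hab (e.trans e'.symm)⟩
    · exact ⟨a, e⟩
  obtain ⟨x', hx⟩ := ex x
  obtain ⟨y', hy⟩ := ex y
  obtain ⟨g, hg, -⟩ := h.two hx.symm hy.symm
  exact ⟨g, hg⟩

theorem Tr.exists_ne (h : Tr G X) (x : X) : ∃ y, y ≠ x := by
  obtain ⟨a, b, hab⟩ := h.nt
  by_cases e : a = x
  · exact ⟨b, fun e' => hab (e.trans e'.symm)⟩
  · exact ⟨a, e⟩

theorem Mn.moves (C : Mn G X) {x y : X} (h : x ≠ y) : ∃ n ∈ C.N x, n • y ≠ y := by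
  by_contra! hn
  refine (C.ss x).ne (eq_bot_iff.2 fun n hn' => mem_bot.2 (C.tr.faith fun z => ?_))
  by_cases hz : x = z
  · exact hz ▸ C.fix hn'
  · obtain ⟨g, h1, h2⟩ := C.tr.two h hz
    have : g⁻¹ * n * g ∈ C.N x := mem_cj.1 (by rw [C.cjN, h1]; exact hn')
    have := hn _ this
    rw [mul_smul, mul_smul, h2, inv_smul_eq_iff, h2] at this
    exact this

theorem Mn.inj (C : Mn G X) {x y : X} (h : C.N x = C.N y) : x = y := by
  by_contra hne
  obtain ⟨n, hn, hm⟩ := C.moves hne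
  exact hm (C.fix (h ▸ hn))

namespace Cs

variable (C : Cs G X) {x y : X} {K L : Subgroup G} {g n a s t : G}

theorem ss (h : K ∈ C.Cp x) : Ss K := (C.sim h).ss

theorem le (h : K ∈ C.Cp x) : K ≤ C.N x := by
  rw [C.gen]; exact le_iSup₂_of_le K h le_rfl

theorem kfix (h : K ∈ C.Cp x) (ha : a ∈ K) : a • x = x := C.fix (C.le h ha)

theorem disj (hK : K ∈ C.Cp x) (hL : L ∈ C.Cp x) (hne : K ≠ L) (ha : a ∈ K) (ha' : a ∈ L) :
    a = 1 :=   (C.ss hK).zc a ha fun k hk => (C.comm hK hL hne k hk a ha').symm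

theorem cjC' (hg : g • x = y) (hK : K ∈ C.Cp x) : cj g K ∈ C.Cp y := hg ▸ C.cjC g hK

theorem conjN (hg : g • x = y) (hn : n ∈ C.N x) : g * n * g⁻¹ ∈ C.N y := by
  rw [← hg, ← C.cjN]; exact cj_mem hn

/-- An element of `N x` acts on a component at `x` as an inner automorphism. -/
theorem pr (hn : n ∈ C.N x) (hK : K ∈ C.Cp x) :
    ∃ a ∈ K, ∀ k ∈ K, n * k * n⁻¹ = a * k * a⁻¹ := by
  rw [C.gen] at hn
  induction hn using Subgroup.iSup_induction' with
  | hp L l hl =>
    by_cases hL : L ∈ C.Cp x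
    · rw [iSup_pos hL] at hl
      by_cases e : K = L
      · exact ⟨l, e ▸ hl, fun _ _ => rfl⟩
      · exact ⟨1, one_mem _, fun k hk => by rw [← C.comm hK hL e k hk l hl]; group⟩
    · rw [iSup_neg hL, mem_bot] at hl
      exact ⟨1, one_mem _, fun k _ => by rw [hl]⟩
  | h1 => exact ⟨1, one_mem _, fun _ _ => rfl⟩
  | hmul a b _ _ ha hb =>
    obtain ⟨a', ha', ea⟩ := ha
    obtain ⟨b', hb', eb⟩ := hb
    refine ⟨a' * b', mul_mem ha' hb', fun k hk => ?_⟩
    calc a * b * k * (a * b)⁻¹ = a * (b * k * b⁻¹) * a⁻¹ := by group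
      _ = a' * (b' * k * b'⁻¹) * a'⁻¹ := by
        rw [eb k hk, ea _ (mul_mem (mul_mem hb' hk) (inv_mem hb'))]
      _ = _ := by group

theorem nrm (hn : n ∈ C.N x) (hK : K ∈ C.Cp x) : cj n K = K := by
  obtain ⟨a, ha, e⟩ := C.pr hn hK
  exact cj_eq_of_le fun k hk => e k hk ▸ mul_mem (mul_mem ha hk) (inv_mem ha)

theorem inner_mem (hg : g • x = x)
    (h : ∀ K ∈ C.Cp x, ∃ a ∈ K, ∀ k ∈ K, g * k * g⁻¹ = a * k * a⁻¹) : g ∈ C.N x := by
  choose! f hf hf' using h
  have key : ∀ S : Set (Subgroup G), S ⊆ C.Cp x → ∃ n ∈ C.N x, ∀ K ∈ C.Cp x, ∀ k ∈ K,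
      (K ∈ S → n * k * n⁻¹ = f K * k * (f K)⁻¹) ∧ (K ∉ S → n * k * n⁻¹ = k) := by
    intro S
    induction S, Set.toFinite S using Set.Finite.induction_on with
    | empty => exact fun _ => ⟨1, one_mem _, fun K _ k _ => ⟨fun h => h.elim, fun _ => by simp⟩⟩
    | @insert L S hL _ ih =>
      intro hS
      have hLx : L ∈ C.Cp x := hS (Set.mem_insert _ _)
      obtain ⟨n, hn, e⟩ := ih fun _ h => hS (Set.mem_insert_of_mem _ h)
      refine ⟨f L * n, mul_mem (C.le hLx (hf L hLx)) hn, fun K hK k hk => ?_⟩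
      have e0 : f L * n * k * (f L * n)⁻¹ = f L * (n * k * n⁻¹) * (f L)⁻¹ := by group
      have e1 : K ≠ L → ∀ k ∈ K, f L * k * (f L)⁻¹ = k := fun hne k hk => by
        rw [← C.comm hK hLx hne k hk _ (hf L hLx)]; group
      rw [e0]
      refine ⟨fun h => ?_, fun h => ?_⟩
      · by_cases hKL : K = L
        · subst hKL; rw [(e K hK k hk).2 hL]
        · rw [(e K hK k hk).1 (h.resolve_left hKL),
            e1 hKL _ (mul_mem (mul_mem (hf K hK) hk) (inv_mem (hf K hK)))]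
      · rw [(e K hK k hk).2 fun h' => h (.inr h'), e1 (fun h' => h (.inl h')) k hk]
  obtain ⟨n, hn, e⟩ := key _ subset_rfl
  have : n⁻¹ * g = 1 := C.cen (by rw [mul_smul, hg, C.fix (inv_mem hn)]) fun K hK k hk => by
    calc n⁻¹ * g * k = n⁻¹ * (g * k * g⁻¹) * g := by group
      _ = k * (n⁻¹ * g) := by rw [hf' K hK k hk, ← (e K hK k hk).1 hK]; group
  rwa [← inv_mul_eq_one.1 this]

theorem conj (hK : K ∈ C.Cp x) (hL : L ∈ C.Cp y) : ∃ g : G, g • x = y ∧ cj g K = L := by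
  obtain ⟨g, hg⟩ := C.tr.trans x y
  obtain ⟨h, h1, h2⟩ := C.trC (C.cjC' hg hK) hL
  exact ⟨h * g, by rw [mul_smul, hg, h1], by rw [cj_mul, h2]⟩

theorem card_eq (hK : K ∈ C.Cp x) (hL : L ∈ C.Cp y) : Nat.card K = Nat.card L := by
  obtain ⟨g, -, rfl⟩ := C.conj hK hL
  exact (card_cj g K).symm

theorem moves (h : x ≠ y) : ∃ K ∈ C.Cp x, ∃ k ∈ K, k • y ≠ y := by
  by_contra! hn
  obtain ⟨K, hK, -⟩ := C.two_c x
  refine (C.ss hK).ne (eq_bot_iff.2 fun k hk => mem_bot.2 (C.tr.faith fun z => ?_))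
  by_cases hz : x = z
  · exact hz ▸ C.kfix hK hk
  · obtain ⟨g, h1, h2⟩ := C.tr.two h hz
    have h3 : g⁻¹ • x = x := by rw [inv_smul_eq_iff, h1]
    have := hn _ (C.cjC' h3 hK) _ (cj_mem hk)
    rw [mul_smul, mul_smul, inv_inv, h2, inv_smul_eq_iff, h2] at this
    exact this

theorem other (hK : K ∈ C.Cp x) : ∃ L ∈ C.Cp x, L ≠ K := by
  obtain ⟨A, hA, B, hB, hne⟩ := C.two_c x
  by_cases e : A = K
  · exact ⟨B, hB, fun e' => hne (e.trans e'.symm)⟩
  · exact ⟨A, hA, e⟩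

/-- `s · t s t⁻¹` for an element `t` with `t² = 1` moving the component `L ∋ s`. -/
theorem diag (hL : L ∈ C.Cp y) (ht : t • y = y) (h2 : t * t = 1) (hm : cj t L ≠ L) (hs : s ∈ L) :
    s * (t * s * t⁻¹) ∈ C.N y ∧ t * (s * (t * s * t⁻¹)) = s * (t * s * t⁻¹) * t ∧
      ∀ k ∈ L, s * (t * s * t⁻¹) * k * (s * (t * s * t⁻¹))⁻¹ = s * k * s⁻¹ := by
  have hL' := C.cjC' ht hL
  have hc := C.comm hL hL' hm.symm
  refine ⟨mul_mem (C.le hL hs) (C.le hL' (cj_mem hs)), ?_, fun k hk => ?_⟩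
  · rw [hc s hs _ (cj_mem hs)]
    have hti : t⁻¹ = t := inv_eq_of_mul_eq_one_right h2
    have := hc s hs _ (cj_mem (g := t) hs)
    calc t * (t * s * t⁻¹ * s) = (t * t) * s * t⁻¹ * s := by group
      _ = s * (t * s * t⁻¹) * t := by rw [h2, hti]; simp [mul_assoc, h2]
      _ = t * s * t⁻¹ * s * t := by rw [this]
  · calc s * (t * s * t⁻¹) * k * (s * (t * s * t⁻¹))⁻¹
        = s * ((t * s * t⁻¹) * k) * (t * s * t⁻¹)⁻¹ * s⁻¹ := by group
      _ = s * k * s⁻¹ := by rw [← hc k hk _ (cj_mem hs)]; group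

variable {C}

theorem Ub.fix (h : C.Ub) (hK : K ∈ C.Cp x) (hg : cj g K = K) : g • x = x := h (hg ▸ C.cjC g hK) hK

theorem C0.ub (h : C.C0) : C.Ub := fun hx hy => (h hx fun _ hk => C.kfix hy hk).symm

theorem HA.c0 (h : C.HA) : C.C0 := fun hK hf => by
  obtain ⟨t, ht, hi⟩ := exists_inv_of_even (C.ss hK).even
  exact h hK ht hi (hf t ht)

variable (C)

/-- The class of all components. -/
def ti (h : C.TI) : Ti G where
  K := {K | ∃ x, K ∈ C.Cp x}
  cjm := fun g _ ⟨_, hx⟩ => ⟨_, C.cjC g hx⟩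
  tr := fun ⟨_, hx⟩ ⟨_, hy⟩ => let ⟨g, _, e⟩ := C.conj hx hy; ⟨g, e⟩
  ti := fun ⟨_, hx⟩ ⟨_, hy⟩ => h hx hy
  ss := fun ⟨_, hx⟩ => C.ss hx
  minn := fun ⟨_, hx⟩ M hM hn => (C.sim hx).simp M hM fun k hk => hn k (cj_self hk)

theorem mem_ti (h : C.TI) : K ∈ (C.ti h).K ↔ ∃ x, K ∈ C.Cp x := Iff.rfl

end Cs

end act

end H98.ON2
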