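import Cfsg.Agent.Lib.ON2.Bas

/-! A component fixing a second point `y` lies in `N y`. -/

set_option autoImplicit false
set_option linter.unusedSectionVars false

namespace H98.ON2.Cs

open Subgroup

variable {G X : Type*} [Group G] [Finite G] [MulAction G X] [Finite X] {C : Cs G X}

namespace C3A

theorem card_orb (K : Subgroup G) (x : X) :
    Nat.card (K ⊓ MulAction.stabilizer G x : Subgroup G) * (MulAction.orbit K x).ncard = Nat.card K := by
  rw [← MulAction.index_stabilizer, ← card_mul_index (MulAction.stabilizer K x),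
    ← Nat.card_congr (subgroupOfEquivOfLe (inf_le_left : K ⊓ MulAction.stabilizer G x ≤ K)).toEquiv,
    inf_subgroupOf_left]
  rfl

variable {x y : X} {K : Subgroup G} (hK : K ∈ C.Cp x) (hf : ∀ k ∈ K, k • y = y)
  (hd : ∀ k ∈ K, k ∈ C.N y → k = 1)
include hK hf hd

theorem cent {b : G} (hb : b ∈ C.N y) (bx : b • x = x) : ∀ k ∈ K, k * b = b * k := fun k hk => by
  have m : ∀ k ∈ K, k * b * k⁻¹ * b⁻¹ ∈ C.N y := fun k hk => mul_mem (C.conjN (hf k hk) hb) (inv_mem hb)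
  have e : cj b K = K := by_contra fun c => (C.ss hK).ne (eq_bot_iff.2 fun a ha => hd a ha
    ((C.ss hK).le_of_moved (C.comm hK (C.cjC' bx hK) (Ne.symm c))
      (fun k hk => by rw [C.cjN, hf k hk]) m ha))
  have := hd _ (by simpa only [mul_assoc] using mul_mem hk (conj_mem e (inv_mem hk))) (m k hk)
  rwa [mul_inv_eq_one, mul_inv_eq_iff_eq_mul] at this

theorem beta {g : G} (hg : g ∈ C.N y) (fx : ∀ k ∈ K, k • g • x = g • x) {a : G} (ha : a ∈ K) :
    a⁻¹ * (g⁻¹ * a * g) ∈ C.N y ∧ (a⁻¹ * (g⁻¹ * a * g)) • x = x :=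
  ⟨by simpa only [mul_assoc, inv_inv] using mul_mem (C.conjN (hf _ (inv_mem ha)) (inv_mem hg)) hg, by
    rw [mul_smul, mul_smul, mul_smul, fx a ha, inv_smul_smul, C.kfix hK (inv_mem ha)]⟩

theorem ker {g : G} (hg : g ∈ C.N y) (fx : ∀ k ∈ K, k • g • x = g • x) :
    (∀ a ∈ K, a * g = g * a → a = 1) ∨ ∀ a ∈ K, a * g = g * a := by
  refine ((C.sim hK).simp (K ⊓ centralizer {g}) inf_le_left fun k hk m hm =>
    ⟨conj_mem (cj_self hk) hm.1, mem_centralizer_singleton_iff.2 ?_⟩).imp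
    (fun e a ha c => mem_bot.1 (e.le ⟨ha, mem_centralizer_singleton_iff.2 c⟩))
    fun e a ha => mem_centralizer_singleton_iff.1 (e.ge ha).2
  have b := beta hK hf hd hg fx hk
  have c := cent hK hf hd b.1 b.2 m hm.1
  have e := mem_centralizer_singleton_iff.1 hm.2
  calc k * m * k⁻¹ * g = g * (g⁻¹ * k * (m * g) * (g⁻¹ * k * g)⁻¹ * g⁻¹) * g := by group
    _ = g * k * (k⁻¹ * (g⁻¹ * k * g) * m) * (g⁻¹ * k * g)⁻¹ := by rw [e]; group
    _ = _ := by rw [← c]; group

end C3A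

theorem Ub.le_N (hu : C.Ub) {x y : X} {K : Subgroup G} (hK : K ∈ C.Cp x) (hxy : x ≠ y)
    (hf : ∀ k ∈ K, k • y = y) : K ≤ C.N y := by
  refine inf_eq_left.1 (((C.sim hK).simp (K ⊓ C.N y) inf_le_left fun k hk m hm =>
    ⟨conj_mem (cj_self hk) hm.1, C.conjN (hf k hk) hm.2⟩).resolve_left fun hd => ?_)
  obtain ⟨⟨p, q, L⟩, ⟨hL, l, hl, lp⟩, mx⟩ := Set.exists_max_image
    {t : X × X × Subgroup G | t.2.2 ∈ C.Cp t.2.1 ∧ ∃ l ∈ t.2.2, l • t.1 ≠ t.1}
    (fun t => Nat.card (t.2.2 ⊓ MulAction.stabilizer G t.1 : Subgroup G)) (Set.toFinite _)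
    (let ⟨L, hL, h⟩ := C.moves hxy; ⟨(y, x, L), hL, h⟩)
  simp only at hL hl lp mx
  obtain ⟨g, rfl, rfl⟩ := C.tr.two hxy (show p ≠ q from fun e => lp (e ▸ C.kfix hL hl))
  replace hK := C.cjC g hK
  replace hf : ∀ k ∈ cj g K, k • g • y = g • y := fun k hk => by
    rw [← mul_smul, ← smul_left_cancel_iff g⁻¹, ← mul_smul, ← mul_assoc, hf _ (mem_cj.1 hk), inv_smul_smul]
  replace hd : ∀ k ∈ cj g K, k ∈ C.N (g • y) → k = 1 := fun k h1 h2 => by
    rw [← C.cjN] at h2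
    exact mem_bot.1 (by rw [← cj_bot g, ← hd, cj_inf]; exact ⟨h1, h2⟩)
  generalize cj g K = K at *
  generalize g • x = x at *
  generalize g • y = y at *
  clear hxy g
  by_cases hn : ∀ k ∈ K, cj k L = L
  · have mv : ∃ k ∈ K, k • l • x ≠ l • x := by
      by_contra c
      push Not at c
      rcases C3A.ker hK hf hd (C.le hL hl) c with e | e
      · have := Nat.card_le_card_of_injective (fun a : K => (⟨(a : G)⁻¹ * (l⁻¹ * a * l), mem_inf.2 ⟨by
          simpa only [mul_assoc, inv_inv] using mul_mem (conj_mem (hn _ (inv_mem a.2)) (inv_mem hl)) hl,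
            (C3A.beta hK hf hd (C.le hL hl) c a.2).2⟩⟩ : (L ⊓ MulAction.stabilizer G x : Subgroup G)))
          fun a b h => Subtype.ext (mul_inv_eq_one.1 (e _ (mul_mem a.2 (inv_mem b.2)) (by
            have h' : (a : G)⁻¹ * (l⁻¹ * a * l) = (b : G)⁻¹ * (l⁻¹ * b * l) := congrArg Subtype.val h
            calc (a : G) * (b : G)⁻¹ * l = l * (a * (((a : G)⁻¹ * (l⁻¹ * a * l)) * (l⁻¹ * b * l)⁻¹)) := by group
              _ = _ := by rw [h']; group)))
        exact lp (eq_of_le_of_card_ge (inf_le_left : L ⊓ MulAction.stabilizer G x ≤ L)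
          ((C.card_eq hL hK).le.trans this) |>.ge hl).2
      · exact lp (hu.fix hK (cj_eq_of_comm fun a ha => (e a ha).symm))
    have le := mx (l • x, x, K) ⟨hK, mv⟩
    have lt : (MulAction.orbit K (l • x)).ncard < (MulAction.orbit L x).ncard := Set.ncard_lt_ncard ⟨by
      rintro _ ⟨k, rfl⟩
      exact ⟨⟨_, conj_mem (hn k k.2) hl⟩, show ((k : G) * l * (k : G)⁻¹) • x = (k : G) • l • x by
        rw [mul_smul, C.kfix hK (inv_mem k.2), mul_smul]⟩, fun c => by
      obtain ⟨k, e⟩ := c (MulAction.mem_orbit_self x)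
      exact lp (smul_left_cancel (k : G) (e.trans (C.kfix hK k.2).symm))⟩
    have := C.card_eq hK hL
    rw [← C3A.card_orb K (l • x), ← C3A.card_orb L x] at this
    exact (Nat.mul_lt_mul_of_le_of_lt le lt Nat.card_pos).ne this
  have one : L ⊓ MulAction.stabilizer G x = ⊥ := eq_bot_iff.2 fun b hb => by_contra fun c => hn fun k hk =>
    by_contra fun e => c (C.disj (C.cjC' (hf k hk) hL) hL e (mem_cj.2 (by
      rw [mul_assoc, ← C3A.cent hK hf hd (C.le hL hb.1) hb.2 k hk, inv_mul_cancel_left]; exact hb.1)) hb.1)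
  obtain ⟨a, ha, ia, mv⟩ : ∃ a ∈ K, Inv a ∧ cj a L ≠ L := by
    by_contra c
    push Not at c
    obtain ⟨t, ht, it⟩ := exists_inv_of_even (C.ss hK).even
    let M : Subgroup G :=
      { carrier := {a | a ∈ K ∧ ∀ k ∈ K, cj (k * a * k⁻¹) L = L}
        mul_mem' := fun {a b} s t => ⟨mul_mem s.1 t.1, fun k hk => by
          rw [← conj_mul, cj_mul, t.2 k hk, s.2 k hk]⟩
        one_mem' := ⟨one_mem _, fun k _ => by simp⟩
        inv_mem' := fun {a} s => ⟨inv_mem s.1, fun k hk => by rw [← conj_inv]; exact cj_inv_eq (s.2 k hk)⟩ }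
    rcases (C.sim hK).simp M (fun _ h => h.1) (fun k hk m hm => ⟨conj_mem (cj_self hk) hm.1, fun k' hk' => by
      rw [← hm.2 _ (mul_mem hk' hk), show k' * (k * m * k⁻¹) * k'⁻¹ = k' * k * m * (k' * k)⁻¹ by group,
        hm.2 _ (mul_mem hk' hk), hm.2 _ (mul_mem hk' hk)]⟩) with e | e
    · exact it.1 (mem_bot.1 (e.le ⟨ht, fun k hk => c _ (conj_mem (cj_self hk) ht) (it.conj k)⟩))
    · exact hn fun k hk => by simpa using (e.ge hk).2 1 (one_mem _)
  obtain ⟨⟨s, hs⟩, s1⟩ := ne_bot_iff_exists_ne_one.1 (C.ss hL).ne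
  obtain ⟨d1, d2, d3⟩ := C.diag hL (hf a ha) ia.2 mv hs
  have fx : ∀ k ∈ K, k • (s * (a * s * a⁻¹)) • x = (s * (a * s * a⁻¹)) • x := by
    by_contra c
    push Not at c
    have := mx (_, x, K) ⟨hK, c⟩
    rw [one, card_bot, card_le_one_iff_eq_bot] at this
    exact ia.1 (mem_bot.1 (this.le ⟨ha, show a • _ = _ by rw [← mul_smul, d2, mul_smul, C.kfix hK ha]⟩))
  have ce := (C3A.ker hK hf hd d1 fx).resolve_left fun c => ia.1 (c a ha d2)
  have pm : ∀ k ∈ K, cj k L = L ∨ cj k L = cj a L := fun k hk => by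
    by_contra c
    push Not at c
    refine s1 (Subtype.ext ((C.ss hL).zc s hs fun b hb => ?_))
    have h1 : Commute (k⁻¹ * s * k⁻¹⁻¹) b := C.comm (C.cjC' (hf _ (inv_mem hk)) hL) hL
      (fun e => c.1 (by simpa using cj_inv_eq e)) _ (cj_mem hs) b hb
    have h2 : Commute (k⁻¹ * (a * s * a⁻¹) * k⁻¹⁻¹) b :=
      C.comm (C.cjC' (hf _ (inv_mem hk)) (C.cjC' (hf a ha) hL)) hL
        (fun e => c.2 (by simpa using cj_inv_eq e)) _ (cj_mem (cj_mem hs)) b hb
    have h3 := h1.mul_left h2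
    rw [conj_mul, ce _ (inv_mem hk), mul_inv_cancel_right] at h3
    rw [← mul_inv_eq_iff_eq_mul, ← d3 b hb, h3.eq, mul_inv_cancel_right]
  exact mv ((C.ss hK).fix_of_small (Y := Sg G) (S := {L, cj a L}) (Set.toFinite _)
    ((Set.ncard_insert_le _ _).trans
      (Nat.succ_le_succ ((Set.ncard_singleton (α := Sg G) _).le.trans one_le_two))) (by
      rintro k hk _ (rfl | rfl)
      · exact pm k hk
      · exact (pm _ (mul_mem hk ha)).imp (cj_mul k a L).symm.trans (cj_mul k a L).symm.trans) a ha L (.inl rfl))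

end H98.ON2.Cs
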