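import Cfsg.Agent.Lib.ON2.Bas

/-! A component fixes only its base point. -/

set_option autoImplicit false
set_option linter.unusedSectionVars false

namespace H98.ON2.Cs

open Subgroup

variable {G X : Type*} [Group G] [Finite G] [MulAction G X] [Finite X] {C : Cs G X}

theorem Ub.c0 (hu : C.Ub) (hle : ∀ {x y : X} {K : Subgroup G}, K ∈ C.Cp x → x ≠ y →
    (∀ k ∈ K, k • y = y) → K ≤ C.N y) : C.C0 := fun {x y K} hK hf => by
  by_contra hxy
  replace hxy : x ≠ y := Ne.symm hxy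
  have on : ∀ {p q : X} {A L : Subgroup G}, A ∈ C.Cp p → A ≤ C.N q → L ∈ C.Cp q →
      (∃ a ∈ A, ∃ k ∈ L, a * k ≠ k * a) → ∀ l ∈ L, ∃ a ∈ A, ∀ k ∈ L, a * k * a⁻¹ = l * k * l⁻¹ :=
    fun hA le hL hn => (C.sim hA).onto (C.sim hL) (C.card_eq hA hL) (fun a ha => C.pr (le ha) hL) hn
  have star : ∀ {p q : X} {L : Subgroup G}, p ≠ q → L ∈ C.Cp q →
      (∀ l ∈ L, l • p = p) ∨ ∀ l ∈ L, l • p = p → l = 1 := fun {p q L} hpq hL => by
    obtain ⟨g, rfl, rfl⟩ := C.tr.two hxy hpq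
    have hA := C.cjC g hK
    by_cases hn : ∃ a ∈ cj g K, ∃ k ∈ L, a * k ≠ k * a
    · refine ((C.sim hL).simp (L ⊓ MulAction.stabilizer G (g • x)) inf_le_left fun l hl m hm => ?_).symm.imp
        (fun e l hl => (e.ge hl).2) fun e l hl c => mem_bot.1 (e.le ⟨hl, c⟩)
      obtain ⟨a, ha, e⟩ := on hA (C.cjN g y ▸ cj_le_cj.2 (hle hK hxy hf)) hL hn l hl
      have : a ∈ MulAction.stabilizer G (g • x) := C.kfix hA ha
      exact mem_inf.2 ⟨conj_mem (cj_self hl) hm.1, e m hm.1 ▸ conj_mem (cj_self this) hm.2⟩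
    · push Not at hn
      exact .inl fun l hl => hu.fix hA (cj_eq_of_comm fun a ha => (hn a ha l hl).symm)
  have le := hle hK hxy hf
  obtain ⟨L, hL, hn⟩ : ∃ L ∈ C.Cp y, ∃ a ∈ K, ∃ k ∈ L, a * k ≠ k * a := by
    by_contra c
    push Not at c
    exact (C.ss hK).ne (eq_bot_iff.2 fun a ha => C.cen (hf a ha) fun L hL => c L hL a ha)
  have fr : ∀ l ∈ L, l • x = x → l = 1 := (star hxy hL).resolve_left fun c => by
    obtain ⟨a, ha, k, hk, ne⟩ := hn
    rcases (C.sim hK).simp (K ⊓ L) inf_le_left (fun b hb m hm =>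
      ⟨conj_mem (cj_self hb) hm.1, conj_mem (C.nrm (le hb) hL) hm.2⟩) with e | e
    · have : a * k * a⁻¹ * k⁻¹ ∈ K ⊓ L := mem_inf.2 ⟨by
        simpa only [mul_assoc] using mul_mem ha (conj_mem (C.nrm (hle hL hxy.symm c hk) hK) (inv_mem ha)),
        mul_mem (conj_mem (C.nrm (le ha) hL) hk) (inv_mem hk)⟩
      rw [e, mem_bot, mul_inv_eq_one, mul_inv_eq_iff_eq_mul] at this
      exact ne this
    · exact hxy (hu hK (eq_of_le_of_card_ge (inf_eq_left.1 e) (C.card_eq hL hK).le ▸ hL))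
  obtain ⟨⟨g, hg⟩, g1⟩ := ne_bot_iff_exists_ne_one.1 (C.ss hL).ne
  refine g1 (Subtype.ext (by_contra fun g1 => ?_))
  obtain ⟨r, hr, e⟩ := on hK le hL hn g hg
  have rg : r * g = g * r := by rw [← mul_inv_eq_iff_eq_mul, e g hg, mul_inv_cancel_right]
  have fz := (star (fun c => g1 (fr g hg c)) hK).resolve_right fun c => by
    rw [c r hr (by rw [← mul_smul, rg, mul_smul, C.kfix hK hr])] at e
    exact g1 ((C.ss hL).zc g hg fun k hk => mul_inv_eq_iff_eq_mul.1 ((e k hk).symm.trans (by simp)))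
  refine g1 ((C.ss hL).zc g hg fun l hl => ?_)
  obtain ⟨a, ha, e⟩ := on hK le hL hn l hl
  have := fr (g⁻¹ * (a * g * a⁻¹)) (mul_mem (inv_mem hg) (conj_mem (C.nrm (le ha) hL) hg)) (by
    rw [mul_smul, mul_smul, mul_smul, C.kfix hK (inv_mem ha), fz a ha, inv_smul_smul])
  rwa [e g hg, inv_mul_eq_one, eq_mul_inv_iff_mul_eq] at this

end H98.ON2.Cs
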