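import Cfsg.Agent.Lib.ON2.Bas

/-! Largest intersections of components: the basic counting lemmas. -/

set_option autoImplicit false
set_option linter.unusedSectionVars false

namespace H98.ON2.Cs

open Subgroup

variable {G X : Type*} [Group G] [Finite G] [MulAction G X] [Finite X] {C : Cs G X} {m : ℕ}
  {x y z p : X} {K L L' W : Subgroup G} {g : G}

theorem Ed.symm (h : C.Ed m x y K L) : C.Ed m y x L K :=
  ⟨h.right, h.left, h.ne.symm, inf_comm K L ▸ h.card⟩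

theorem Ed.smul (h : C.Ed m x y K L) (g : G) : C.Ed m (g • x) (g • y) (cj g K) (cj g L) :=
  ⟨C.cjC g h.left, C.cjC g h.right, fun e => h.ne (cj_inj.1 e), by rw [← cj_inf, card_cj, h.card]⟩

theorem Mx.ne_pt (hm : C.Mx m) (h : C.Ed m x y K L) : x ≠ y := by
  rintro rfl
  have := h.card
  rw [(eq_bot_iff_forall (K ⊓ L)).2 fun a ha => C.disj h.left h.right h.ne ha.1 ha.2, card_bot] at this
  exact hm.gt.ne this

theorem Mx.exists_ed (hm : C.Mx m) (hxy : x ≠ y) : ∃ K L, C.Ed m x y K L := by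
  obtain ⟨u, v, K, L, h⟩ := hm.ex
  obtain ⟨g, rfl, rfl⟩ := C.tr.two (hm.ne_pt h) hxy
  exact ⟨_, _, h.smul g⟩

theorem Mx.ed_of_le (hm : C.Mx m) (hW : Nat.card W = m) (hK : K ∈ C.Cp x) (hL : L ∈ C.Cp y)
    (hne : K ≠ L) (h1 : W ≤ K) (h2 : W ≤ L) : K ⊓ L = W ∧ C.Ed m x y K L := by
  have e := (eq_of_le_of_card_ge (le_inf h1 h2) ((hm.le hK hL hne).trans hW.ge)).symm
  exact ⟨e, hK, hL, hne, e ▸ hW⟩

theorem Mx.key (h0 : C.C0) (hm : C.Mx m) (hK : K ∈ C.Cp z) (hg : g ∈ K) (hp : g • p ≠ p)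
    (h : C.Ed m p z L L') (hne : L' ≠ K) : L ⊓ L' = L ⊓ cj g L ∧ C.Ed m p (g • p) L (cj g L) := by
  have := hm.ed_of_le h.card h.left (C.cjC g h.left) (fun e => hp (h0.ub (e ▸ C.cjC g h.left) h.left))
    inf_le_left fun a ha => mem_cj.2 (by
      rw [mul_assoc, C.comm h.right hK hne a ha.2 g hg, inv_mul_cancel_left]; exact ha.1)
  exact ⟨this.1.symm, this.2⟩

namespace CIa

/-- double counting -/
theorem dc {α β : Type*} [Finite α] [Finite β] (s : Set α) (t : Set β) (r : α → β → Prop) {m n : ℕ}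
    (hm : ∀ a ∈ s, m ≤ {b | b ∈ t ∧ r a b}.ncard) (hn : ∀ b ∈ t, {a | a ∈ s ∧ r a b}.ncard ≤ n) :
    s.ncard * m ≤ t.ncard * n := by
  classical
  rw [Set.ncard_eq_toFinset_card s, Set.ncard_eq_toFinset_card t]
  refine Finset.card_mul_le_card_mul r (fun a ha => (hm a (by simpa using ha)).trans_eq ?_)
    fun b hb => (Eq.le ?_).trans (hn b (by simpa using hb))
  all_goals
    rw [← Set.ncard_coe_finset]
    congr 1
    ext
    simp

theorem smul_mem_F {u : X} (hu : u ∈ C.F W) (g : G) : g • u ∈ C.F (cj g W) :=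
  let ⟨_, h1, h2⟩ := hu; ⟨_, C.cjC g h1, cj_le_cj.2 h2⟩

theorem faith {V : Subgroup G} (hL : L ∈ C.Cp z) (le : V ≤ L) (h1 : V ≠ ⊥) (h2 : V ≠ L) {l : G} (hl : l ∈ L)
    (h : ∀ s ∈ L, cj l (cj s V) = cj s V) : l = 1 := by
  let M : Subgroup G :=
    { carrier := {a | a ∈ L ∧ ∀ s ∈ L, cj a (cj s V) = cj s V}
      mul_mem' := fun {a b} s t => ⟨mul_mem s.1 t.1, fun k hk => by rw [cj_mul, t.2 k hk, s.2 k hk]⟩
      one_mem' := ⟨one_mem _, fun k _ => cj_one _⟩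
      inv_mem' := fun {a} s => ⟨inv_mem s.1, fun k hk => cj_inv_eq (s.2 k hk)⟩ }
  rcases (C.sim hL).simp M (fun _ h => h.1) (fun k hk a ha => ⟨conj_mem (cj_self hk) ha.1, fun s hs => by
    rw [cj_mul, cj_mul, ← cj_mul k⁻¹, ha.2 _ (mul_mem (inv_mem hk) hs), cj_mul, cj_cj_inv]⟩) with e | e
  · exact mem_bot.1 (e.le ⟨hl, h⟩)
  · exact (((C.sim hL).simp V le fun k hk a =>
      conj_mem (by simpa using (e.ge hk).2 1 (one_mem _))).elim h1 h2).elim

theorem six {A B : Subgroup G} {R : Set (Subgroup G)} (hm : 1 < m) (hA : Nat.card A = m) (hB : Nat.card B = m)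
    (c : ∀ a ∈ A, ∀ b ∈ B, a * b = b * a) (hR : ∀ a ∈ A, ∀ b ∈ B, ∀ r ∈ R, cj (a * b) r ∈ R)
    (hf : ∀ a ∈ A, ∀ b ∈ B, (∀ r ∈ R, cj (a * b) r = r) → a = 1 ∧ b = 1) : 4 ≤ R.ncard := by
  let _ : MulAction (A × B) R :=
    { smul := fun t r => ⟨cj (t.1 * t.2) r, hR _ t.1.2 _ t.2.2 _ r.2⟩
      one_smul := fun r => Subtype.ext (show cj (1 * 1) r.1 = r by simp)
      mul_smul := fun s t r => Subtype.ext (show cj ((s.1 : G) * t.1 * (s.2 * t.2)) r.1 =
          cj ((s.1 : G) * s.2) (cj ((t.1 : G) * t.2) r) by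
        rw [← cj_mul, (show Commute (t.1 : G) s.2 from c _ t.1.2 _ s.2.2).mul_mul_mul_comm]) }
  have d := card_dvd_of_injective (MulAction.toPermHom (A × B) R) ((injective_iff_map_eq_one _).2 fun t ht =>
    have := hf _ t.1.2 _ t.2.2 fun r hr => congrArg Subtype.val (Equiv.congr_fun ht ⟨r, hr⟩)
    Prod.ext (Subtype.ext this.1) (Subtype.ext this.2))
  rw [Nat.card_prod, hA, hB, Nat.card_perm, Nat.card_coe_set_eq] at d
  by_contra h
  have d6 : m * m ∣ 6 := d.trans (Nat.factorial_dvd_factorial (n := 3) (by omega))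
  have := Nat.le_of_dvd (by omega) d6
  obtain rfl : m = 2 := by nlinarith
  omega

end CIa

theorem C0.four_le (h0 : C.C0) (hz : z ∈ C.F W) (hy : y ∈ C.F W) (hne : y ≠ z) :
    4 ≤ (C.F W \ {z}).ncard := by
  obtain ⟨K, hK, le⟩ := hz
  obtain ⟨L, hL, ne⟩ := C.other hK
  by_contra c
  refine hne (h0 hL fun l hl => (C.ss hL).fix_of_small (S := C.F W \ {z}) (Set.toFinite _) (by omega)
    (fun l hl u hu => ⟨?_, fun e => hu.2 (smul_left_cancel l (e.trans (C.kfix hL hl).symm))⟩) l hl y ⟨hy, hne⟩)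
  rw [← cj_eq_of_comm (g := l) (K := W) fun a ha => C.comm hL hK ne l hl a (le ha)]
  exact CIa.smul_mem_F hu.1 l

theorem Mx.blk (h0 : C.C0) (hm : C.Mx m) (hK : K ∈ C.Cp z) (hW : W ≤ K) (h : C.Ed m z p L L')
    (hne : K ≠ L) : 3 * ((C.F W ∩ C.F (L ⊓ L')) \ {z}).ncard ≤ (C.F W \ {z}).ncard := by
  have hL := h.left
  have cV := h.card
  have v2 : L ⊓ L' ≠ L := fun e => h.ne (eq_of_le_of_card_ge (inf_eq_left.1 e) (C.card_eq h.right hL).le)
  have le : L ⊓ L' ≤ L := inf_le_left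
  generalize L ⊓ L' = V at cV v2 le ⊢
  have v1 : V ≠ ⊥ := fun e => hm.gt.ne (by rw [← cV, e, card_bot])
  set S := {V' | ∃ s ∈ L, cj s V = V'}
  have iS : ∀ l ∈ L, ∀ T ∈ S, cj l T ∈ S := by
    rintro l hl _ ⟨s, hs, rfl⟩
    exact ⟨_, mul_mem hl hs, cj_mul _ _ _⟩
  have fS : ∀ l ∈ L, (∀ T ∈ S, cj l T = T) → l = 1 := fun l hl e =>
    CIa.faith hL le v1 v2 hl fun s hs => e _ ⟨s, hs, rfl⟩
  have n4 : 4 ≤ S.ncard := by_contra fun c => (C.ss hL).ne (eq_bot_iff.2 fun l hl => fS l hl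
    ((C.ss hL).fix_of_small (Y := Sg G) (S := S) (Set.toFinite _) (Nat.le_of_lt_succ (not_le.1 c)) iS l hl))
  have ed : ∀ u, u ≠ z → ∀ T ∈ S, u ∈ C.F T → Nat.card T = m ∧ ∃ A, L ⊓ A = T ∧ C.Ed m z u L A := by
    rintro u hu _ ⟨s, hs, rfl⟩ ⟨A, hA, lA⟩
    exact ⟨(card_cj s V).trans cV, A, hm.ed_of_le ((card_cj s V).trans cV) hL hA
      (fun e => hu (h0.ub (e ▸ hA) hL)) (cj_self hs ▸ cj_le_cj.2 le) lA⟩
  have k := CIa.dc S (C.F W \ {z}) (fun T u => u ∈ C.F T) (m := ((C.F W ∩ C.F V) \ {z}).ncard)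
    (n := S.ncard / 3) (by
      rintro _ ⟨s, hs, rfl⟩
      refine Set.ncard_le_ncard_of_injOn (s • ·) (fun u hu => ⟨⟨?_, fun e =>
        hu.2 (smul_left_cancel s (e.trans (C.kfix hL hs).symm))⟩, CIa.smul_mem_F hu.1.2 s⟩)
        (MulAction.injective s).injOn
      rw [← cj_eq_of_comm (g := s) (K := W) fun a ha => (C.comm hK hL hne a (hW ha) s hs).symm]
      exact CIa.smul_mem_F hu.1.1 s) fun u hu => by
      by_cases c : {T | T ∈ S ∧ u ∈ C.F T}.ncard ≤ 1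
      · omega
      obtain ⟨T₁, T₂, h1, h2, ne⟩ := (Set.one_lt_ncard_iff (Set.toFinite _)).1 (not_le.1 c)
      obtain ⟨c1, A, rfl, eA⟩ := ed u hu.2 _ h1.1 h1.2
      obtain ⟨c2, B, rfl, eB⟩ := ed u hu.2 _ h2.1 h2.2
      have AB : A ≠ B := fun e => ne (e ▸ rfl)
      have cm : ∀ a ∈ L ⊓ A, ∀ b ∈ L ⊓ B, a * b = b * a := fun a ha b hb =>
        C.comm eA.right eB.right AB a ha.2 b hb.2
      have f1 : ∀ a ∈ L ⊓ A, ∀ b ∈ L ⊓ B, cj (a * b) (L ⊓ A) = L ⊓ A ∧ cj (a * b) (L ⊓ B) = L ⊓ B :=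
        fun a ha b hb => ⟨by rw [cj_mul, cj_eq_of_comm fun c hc => (cm c hc b hb).symm, cj_self ha],
          by rw [cj_mul, cj_self hb, cj_eq_of_comm (cm a ha)]⟩
      have n6 := CIa.six (R := S \ {L ⊓ A, L ⊓ B}) hm.gt c1 c2 cm
        (fun a ha b hb r hr => ⟨iS _ (mul_mem ha.1 hb.1) r hr.1, fun e => hr.2 (e.imp
          (fun e => cj_inj.1 (e.trans (f1 a ha b hb).1.symm)) fun e => cj_inj.1 (e.trans (f1 a ha b hb).2.symm))⟩)
        fun a ha b hb e => by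
          have := fS _ (mul_mem ha.1 hb.1) fun T hT => by
            by_cases c : T ∈ ({L ⊓ A, L ⊓ B} : Set (Subgroup G))
            · rcases c with rfl | rfl
              exacts [(f1 a ha b hb).1, (f1 a ha b hb).2]
            · exact e T ⟨hT, c⟩
          obtain rfl := C.disj eA.right eB.right AB ha.2 (eq_inv_of_mul_eq_one_left this ▸ inv_mem (show b ∈ B from hb.2))
          exact ⟨rfl, by rwa [one_mul] at this⟩
      have e := Set.ncard_sdiff_add_ncard_of_subset (show {L ⊓ A, L ⊓ B} ⊆ S by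
        rintro _ (rfl | rfl); exacts [h1.1, h2.1])
      have : {T | T ∈ S ∧ u ∈ C.F T}.ncard ≤ ({L ⊓ A, L ⊓ B} : Set (Subgroup G)).ncard :=
        Set.ncard_le_ncard fun T hT => by
          obtain ⟨-, D, rfl, eD⟩ := ed u hu.2 _ hT.1 hT.2
          by_contra c
          obtain ⟨g, hg, gz⟩ : ∃ g ∈ D, g • z ≠ z := by
            by_contra c
            push Not at c
            exact hu.2 (h0 eD.right c).symm
          exact ne ((hm.key h0 eD.right hg gz eA fun e => c (.inl (e ▸ rfl))).1.trans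
            (hm.key h0 eD.right hg gz eB fun e => c (.inr (e ▸ rfl))).1.symm)
      rw [Set.ncard_pair ne] at e this
      omega
  refine Nat.le_of_mul_le_mul_left ?_ (show 0 < S.ncard by omega)
  calc _ = 3 * (S.ncard * _) := mul_left_comm _ _ _
    _ ≤ 3 * (_ * (S.ncard / 3)) := Nat.mul_le_mul_left 3 k
    _ ≤ _ := by rw [mul_left_comm, mul_comm S.ncard]; exact Nat.mul_le_mul_left _ (Nat.mul_div_le _ _)

end H98.ON2.Cs
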