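import Cfsg.Agent.Lib.ON2.CIa

/-! Two points carry only one edge. -/

set_option autoImplicit false
set_option linter.unusedSectionVars false

namespace H98.ON2.Cs

open Subgroup

variable {G X : Type*} [Group G] [Finite G] [MulAction G X] [Finite X] {C : Cs G X} {m : ℕ}

theorem Mx.uniq (h0 : C.C0) (hm : C.Mx m) {x y : X} {K L K' L' : Subgroup G}
    (h : C.Ed m x y K L) (h' : C.Ed m x y K' L') : K = K' := by
  by_contra hne
  have c2 : 1 < {A | ∃ B, C.Ed m x y A B}.ncard :=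
    (Set.one_lt_ncard_iff (Set.toFinite _)).2 ⟨K, K', ⟨L, h⟩, ⟨L', h'⟩, hne⟩
  have same : ∀ {u v : X}, u ≠ v → {A | ∃ B, C.Ed m u v A B}.ncard = {A | ∃ B, C.Ed m x y A B}.ncard := by
    have k : ∀ {x y u v : X}, x ≠ y → u ≠ v →
        {A | ∃ B, C.Ed m u v A B}.ncard ≤ {A | ∃ B, C.Ed m x y A B}.ncard := fun a b => by
      obtain ⟨g, rfl, rfl⟩ := C.tr.two b a
      exact Set.ncard_le_ncard_of_injOn (cj g) (fun _ ⟨_, e⟩ => ⟨_, e.smul g⟩) fun _ _ _ _ => cj_inj.1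
    exact fun {_ _} a => le_antisymm (k (hm.ne_pt h) a) (k a (hm.ne_pt h))
  generalize {A | ∃ B, C.Ed m x y A B}.ncard = c at c2 same
  have xF : x ∈ C.F (K ⊓ L) := ⟨K, h.left, inf_le_left⟩
  have f4 := h0.four_le xF ⟨L, h.right, inf_le_right⟩ (hm.ne_pt h).symm
  rw [Set.ncard_sdiff_singleton_of_mem xF] at f4
  obtain ⟨⟨g, hg⟩, g1⟩ := ne_bot_iff_exists_ne_one.1
    (show K ⊓ L ≠ ⊥ from fun e => hm.gt.ne (by rw [← h.card, e, card_bot]))
  obtain ⟨p, hp⟩ : ∃ p : X, g • p ≠ p := by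
    by_contra c
    push Not at c
    exact g1 (Subtype.ext (C.tr.faith c))
  clear g1
  generalize K ⊓ L = W at *
  have k := CIa.dc (C.F W) {A | ∃ B, C.Ed m p (g • p) A B}
    (fun z i => ∃ D, ∃ A ∈ C.Cp z, W ≤ A ∧ D ≠ A ∧ C.Ed m p z i D) (m := c - 1)
    (n := ((C.F W).ncard - 1) / 3 + 1) (by
      rintro z ⟨A, hA, le⟩
      have : ∀ D, ∃ i, (∃ B, C.Ed m z p D B) → C.Ed m p z i D := fun D => by
        by_cases e : ∃ B, C.Ed m z p D B
        · exact ⟨_, fun _ => e.choose_spec.symm⟩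
        · exact ⟨D, fun a => absurd a e⟩
      choose i hi using this
      rw [← same (show z ≠ p from fun e => hp (e ▸ C.kfix hA (le hg)))]
      refine (Set.pred_ncard_le_ncard_sdiff_singleton _ A).trans (Set.ncard_le_ncard_of_injOn i
        (fun D hD => ⟨⟨_, (hm.key h0 hA (le hg) hp (hi D hD.1) hD.2).2⟩, D, A, hA, le, hD.2, hi D hD.1⟩)
        fun D hD E hE e => by_contra fun ne => hm.gt.ne ?_)
      have e1 := (hm.key h0 hA (le hg) hp (hi D hD.1) hD.2).1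
      have e2 := (hm.key h0 hA (le hg) hp (hi E hE.1) hE.2).1
      rw [← e, ← e1] at e2
      rw [← (hi D hD.1).card, (eq_bot_iff_forall (i D ⊓ D)).2 fun a ha =>
        C.disj (hi D hD.1).right (hi E hE.1).right ne ha.2 (e2.ge ha).2, card_bot]) fun i _ => by
      rcases Set.eq_empty_or_nonempty {z | z ∈ C.F W ∧ ∃ D, ∃ A ∈ C.Cp z, W ≤ A ∧ D ≠ A ∧ C.Ed m p z i D} with
        e | ⟨z, hz, D, A, hA, le, ne, e⟩
      · rw [e, Set.ncard_empty]; omega
      have b := hm.blk h0 hA le e.symm ne.symm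
      have l := Set.pred_ncard_le_ncard_sdiff_singleton (C.F W ∩ C.F (D ⊓ i)) z
      have : {z | z ∈ C.F W ∧ ∃ D, ∃ A ∈ C.Cp z, W ≤ A ∧ D ≠ A ∧ C.Ed m p z i D}.ncard ≤
          (C.F W ∩ C.F (D ⊓ i)).ncard := Set.ncard_le_ncard fun u ⟨hu, E, B, hB, le', ne', e'⟩ =>
        ⟨hu, E, e'.right, by
          rw [inf_comm, (hm.key h0 hA (le hg) hp e ne).1, ← (hm.key h0 hB (le' hg) hp e' ne').1]
          exact inf_le_right⟩
      rw [Set.ncard_sdiff_singleton_of_mem hz] at b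
      omega
  rw [same hp.symm] at k
  generalize (C.F W).ncard = f at k f4
  obtain ⟨d, rfl⟩ : ∃ d, c = d + 1 := ⟨c - 1, by omega⟩
  rw [Nat.add_sub_cancel] at k
  have : 3 * ((f - 1) / 3 + 1) ≤ f + 2 := by omega
  have : 5 ≤ f := by omega
  have : 1 ≤ d := by omega
  nlinarith

end H98.ON2.Cs
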