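import Cfsg.Agent.Lib.ON2.CIa

/-! The linear space of the largest intersections does not exist. -/

set_option autoImplicit false
set_option linter.unusedSectionVars false

namespace H98.ON2.Cs

open Subgroup

variable {G X : Type*} [Group G] [Finite G] [MulAction G X] [Finite X] {C : Cs G X} {m : ℕ}

theorem Mx.false (h0 : C.C0) (hm : C.Mx m)
    (hu : ∀ {x y : X} {K L K' L' : Subgroup G}, C.Ed m x y K L → C.Ed m x y K' L' → K = K') :
    False := by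
  have ed : ∀ {W : Subgroup G} {u v : X}, Nat.card W = m → u ≠ v → u ∈ C.F W → v ∈ C.F W →
      ∃ A B, A ⊓ B = W ∧ C.Ed m u v A B := fun c ne ⟨A, hA, a⟩ ⟨B, hB, b⟩ =>
    ⟨A, B, hm.ed_of_le c hA hB (fun e => ne (h0.ub hA (e ▸ hB))) a b⟩
  have uq : ∀ {W V : Subgroup G} {u v : X}, Nat.card W = m → Nat.card V = m → u ≠ v → u ∈ C.F W → v ∈ C.F W →
      u ∈ C.F V → v ∈ C.F V → W = V := fun c c' ne a b a' b' => by
    obtain ⟨A, B, rfl, e⟩ := ed c ne a b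
    obtain ⟨A', B', rfl, e'⟩ := ed c' ne a' b'
    rw [hu e e', hu e.symm e'.symm]
  have le : ∀ {W V : Subgroup G} {x y u v : X}, Nat.card W = m → Nat.card V = m → x ≠ y → u ≠ v → x ∈ C.F W →
      y ∈ C.F W → u ∈ C.F V → v ∈ C.F V → (C.F W).ncard ≤ (C.F V).ncard := fun c c' ne ne' a b a' b' => by
    obtain ⟨g, rfl, rfl⟩ := C.tr.two ne ne'
    rw [← uq ((card_cj g _).trans c) c' ne' (CIa.smul_mem_F a g) (CIa.smul_mem_F b g) a' b']
    exact Set.ncard_le_ncard_of_injOn (g • ·) (fun _ h => CIa.smul_mem_F h g) (MulAction.injective g).injOn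
  have ex : ∀ {u v : X}, u ≠ v → ∃ V : Subgroup G, Nat.card V = m ∧ u ∈ C.F V ∧ v ∈ C.F V := fun ne =>
    let ⟨A, B, e⟩ := hm.exists_ed ne
    ⟨_, e.card, ⟨A, e.left, inf_le_left⟩, B, e.right, inf_le_right⟩
  obtain ⟨x, y, hxy⟩ := C.tr.nt
  obtain ⟨W, cW, xW, yW⟩ := ex hxy
  have f4 := h0.four_le xW yW hxy.symm
  rw [Set.ncard_sdiff_singleton_of_mem xW] at f4
  obtain ⟨⟨g, hg⟩, g1⟩ := ne_bot_iff_exists_ne_one.1
    (show W ≠ ⊥ from fun e => hm.gt.ne (by rw [← cW, e, card_bot]))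
  replace g1 : g ≠ 1 := fun e => g1 (Subtype.ext e)
  obtain ⟨p, hp⟩ : ∃ p : X, p ≠ g • p := by
    by_contra c
    push Not at c
    exact g1 (C.tr.faith fun p => (c p).symm)
  have sub : C.F W ⊆ {u | g • u = u} := fun u ⟨_, hA, a⟩ => C.kfix hA (a hg)
  have e1 := Set.ncard_sdiff_add_ncard_of_subset sub
  have e2 := Set.ncard_add_ncard_compl {u : X | g • u = u}
  have k1 := CIa.dc (C.F W) {u : X | g • u = u}ᶜ (fun z u => ∃ A B, C.Ed m z u A B ∧ ¬ W ≤ A)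
    (m := Nat.card X / 2 - ({u | g • u = u} \ C.F W).ncard) (n := 1) (by
      rintro z ⟨K, hK, lK⟩
      obtain ⟨L, hL, ne⟩ := C.other hK
      obtain ⟨h, hz, rfl⟩ := C.trC hK hL
      set S := {u | ∃ A B, C.Ed m z u A B ∧ ¬ W ≤ A}
      have l1 : (Sᶜ \ {z}).ncard ≤ S.ncard := Set.ncard_le_ncard_of_injOn (h • ·) (fun u hu => by
        obtain ⟨A, B, e⟩ := hm.exists_ed (Ne.symm hu.2)
        obtain rfl : A = K := by_contra fun c =>
          g1 (C.disj e.left hK c (not_not.1 (fun a => hu.1 ⟨A, B, e, a⟩) hg) (lK hg))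
        exact ⟨_, _, hz ▸ e.smul h, fun a => g1 (C.disj hL hK ne (a hg) (lK hg))⟩) (MulAction.injective h).injOn
      have l2 := Set.pred_ncard_le_ncard_sdiff_singleton Sᶜ z
      have l3 := Set.ncard_add_ncard_compl S
      have l4 : S.ncard ≤ _ := (Set.ncard_le_ncard (t := {u | u ∈ {u : X | g • u = u}ᶜ ∧ u ∈ S} ∪
        ({u | g • u = u} \ C.F W)) fun u hS => by
          by_cases c : g • u = u
          · obtain ⟨A, B, e, n⟩ := hS
            refine .inr ⟨c, fun ⟨D, hD, lD⟩ => n (hu e (hm.ed_of_le cW hK hD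
              (fun a => hm.ne_pt e (h0.ub hK (a ▸ hD))) lK lD).2 ▸ lK)⟩
          · exact .inl ⟨c, hS⟩).trans (Set.ncard_union_le _ _)
      exact Nat.sub_le_iff_le_add.2 (le_trans (by omega) l4)) fun u mv => by
      have k : ∀ z ∈ C.F W, ∀ A B, C.Ed m z u A B → ¬ W ≤ A → g • u ∈ C.F (A ⊓ B) := fun z ⟨K, hK, lK⟩ A B e n => by
        rw [← cj_eq_of_comm (g := g) (K := A ⊓ B) fun a ha =>
          C.comm hK e.left (fun c => n (c ▸ lK)) g (lK hg) a ha.1]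
        exact CIa.smul_mem_F ⟨B, e.right, inf_le_right⟩ g
      refine (Set.ncard_le_one_iff (Set.toFinite _)).2 fun {z z'} ⟨hz, A, B, e, n⟩ ⟨hz', A', B', e', n'⟩ =>
        by_contra fun ne => n ?_
      have := uq e.card e'.card (Ne.symm mv) ⟨B, e.right, inf_le_right⟩ (k z hz A B e n)
        ⟨B', e'.right, inf_le_right⟩ (k z' hz' A' B' e' n')
      rw [uq cW e.card ne hz hz' ⟨A, e.left, inf_le_left⟩ (this ▸ ⟨A', e'.left, inf_le_left⟩)]
      exact inf_le_left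
  obtain ⟨V, cV, pV, gV⟩ := ex hp
  have k2 := CIa.dc ({u : X | g • u = u} \ C.F V) {p}ᶜ
    (fun u v => ∃ T : Subgroup G, Nat.card T = m ∧ p ∈ C.F T ∧ u ∈ C.F T ∧ v ∈ C.F T)
    (m := (C.F W).ncard - 1) (n := 1) (fun u hu => by
      have ne : p ≠ u := fun e => hu.2 (e ▸ pV)
      obtain ⟨T, cT, a, b⟩ := ex ne
      exact ((Nat.sub_le_sub_right (le cW cT hxy ne xW yW a b) 1).trans
        (Set.pred_ncard_le_ncard_sdiff_singleton _ p)).trans
        (Set.ncard_le_ncard fun v hv => ⟨hv.2, T, cT, a, b, hv.1⟩)) fun v hv => by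
      refine (Set.ncard_le_one_iff (Set.toFinite _)).2 fun {u u'} ⟨hu, T, cT, a, b, c⟩ ⟨hu', T', cT', a', b', c'⟩ =>
        by_contra fun ne => hu.2 ?_
      obtain rfl := uq cT cT' (Ne.symm hv) a c a' c'
      have := uq ((card_cj g T).trans cT) cT ne (hu.1 ▸ CIa.smul_mem_F b g) (hu'.1 ▸ CIa.smul_mem_F b' g) b b'
      exact uq cT cV hp a (this ▸ CIa.smul_mem_F a g) pV gV ▸ b
  have e3 := Set.ncard_add_ncard_compl ({p} : Set X)
  have e4 := Set.le_ncard_sdiff (C.F V) {u : X | g • u = u}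
  have e5 := le cV cW hp hxy pV gV xW yW
  rw [Set.ncard_singleton] at e3
  rw [Nat.mul_sub, Nat.sub_le_iff_le_add] at k1
  generalize (C.F W).ncard = f at *
  generalize ({u : X | g • u = u} \ C.F W).ncard = φ at *
  obtain ⟨d, rfl⟩ : ∃ d, f = d + 1 := ⟨f - 1, by omega⟩
  have := (Nat.mul_le_mul_right (d + 1 - 1) (show φ ≤ _ from le_trans (by omega) e4)).trans k2
  have := Nat.mul_le_mul_right (Nat.card X / 2) (show 5 ≤ d + 1 by omega)
  simp only [Nat.add_sub_cancel, add_mul, one_mul, mul_one, mul_comm φ d] at *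
  omega

theorem exists_mx (h : ¬ C.TI) : ∃ m, C.Mx m := by
  simp only [TI, not_forall] at h
  obtain ⟨x, y, K, L, a, hK, hL, h1, h2, a1, ne⟩ := h
  obtain ⟨⟨u, v, A, B⟩, ⟨hA, hB, hAB⟩, mx⟩ := Set.exists_max_image
    {t : X × X × Subgroup G × Subgroup G | t.2.2.1 ∈ C.Cp t.1 ∧ t.2.2.2 ∈ C.Cp t.2.1 ∧ t.2.2.1 ≠ t.2.2.2}
    (fun t => Nat.card (t.2.2.1 ⊓ t.2.2.2 : Subgroup G)) (Set.toFinite _) ⟨(x, y, K, L), hK, hL, ne⟩
  exact ⟨_, ((one_lt_card_iff_ne_bot (K ⊓ L)).2 fun e => a1 (mem_bot.1 (e.le ⟨h1, h2⟩))).trans_le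
    (mx (x, y, K, L) ⟨hK, hL, ne⟩), fun {x y K L} a b c => mx (x, y, K, L) ⟨a, b, c⟩, u, v, A, B, hA, hB, hAB, rfl⟩

end H98.ON2.Cs
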