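import Cfsg.Agent.Lib.ON2.OC
import Cfsg.Agent.Lib.ONT.Defs
import Cfsg.Agent.Lib.ONT.Tw0

/-! Existence of a Sylow pair in a T.I. class. -/

set_option autoImplicit false
set_option linter.unusedSectionVars false

namespace H98.ON2

open Subgroup

theorem exists_swap {G Y : Type*} [Group G] [Finite G] [MulAction G Y] {O : Set Y} (hO : O.Finite)
    {r s : G} {a b : Y} (ha : a ∈ O) (hab : a ≠ b)
    (hr : ∀ y ∈ O, r • y ∈ O) (hs : ∀ y ∈ O, s • y ∈ O)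
    (r2 : ∀ y ∈ O, r • r • y = y) (s2 : ∀ y ∈ O, s • s • y = y)
    (fr : ∀ y ∈ O, r • y = y ↔ y = a) (fs : ∀ y ∈ O, s • y = y → y = b) :
    ∃ w ∈ closure ({r, s} : Set G), w • a = b ∧ w • b = a := by
  have _ := hO
  have _ := hab
  have mem : ∀ (i : ℕ), ∀ y ∈ O, (s * r) ^ i • y ∈ O := fun i => by
    induction i with
    | zero => intro y hy; simpa using hy
    | succ i ih => intro y hy; rw [pow_succ', mul_smul, mul_smul]; exact hs _ (hr _ (ih y hy))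
  have key : ∀ (i : ℕ), ∀ y ∈ O, (s * r) ^ i • r • (s * r) ^ i • y = r • y := fun i => by
    induction i with
    | zero => intro y _; simp
    | succ i ih =>
      intro y hy
      have h1 := mem i y hy
      calc _ = (s * r) ^ i • s • r • r • s • r • (s * r) ^ i • y := by
            conv_lhs => rw [pow_succ]; arg 2; arg 2; rw [← pow_succ, pow_succ']
            simp only [mul_smul]
        _ = _ := by rw [r2 _ (hs _ (hr _ h1)), s2 _ (hr _ h1), ih y hy]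
  have ra := (fr a ha).2 rfl
  have pos := MulAction.period_pos_of_orderOf_pos (orderOf_pos (s * r)) a
  have per := MulAction.pow_period_smul (s * r) a
  rcases Nat.even_or_odd' (MulAction.period (s * r) a) with ⟨m, hm | hm⟩
  · rw [hm, two_mul, pow_add, mul_smul] at per
    have e := (fr _ (mem m a ha)).1 (smul_left_cancel _ (((key m a ha).trans ra).trans per.symm))
    exact absurd e (MulAction.pow_smul_ne_of_lt_period (by omega) (by omega))
  · have e1 := (key (m + 1) a ha).trans ra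
    have e : (s * r) ^ (m + 1) • a = b := by
      refine fs _ (mem _ a ha) (smul_left_cancel ((s * r) ^ m) ?_)
      calc _ = (s * r) ^ m • s • r • r • (s * r) ^ (m + 1) • a := by rw [r2 _ (mem _ a ha)]
        _ = (s * r) ^ (m + 1) • r • (s * r) ^ (m + 1) • a := by
            conv_rhs => rw [pow_succ (s * r) m, mul_smul, mul_smul, ← pow_succ]
        _ = _ := by rw [e1, ← mul_smul, ← pow_add, show m + (m + 1) = 2 * m + 1 by ring, ← hm, per]
    have hr' : r ∈ closure ({r, s} : Set G) := subset_closure (by simp)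
    have hs' : s ∈ closure ({r, s} : Set G) := subset_closure (by simp)
    exact ⟨(s * r) ^ (m + 1) * r, mul_mem (pow_mem (mul_mem hs' hr') _) hr', by rw [mul_smul, ra, e],
      by rw [mul_smul, ← e, e1]⟩

namespace EVx

theorem rel_dvd {M : Type*} [Group M] [Finite M] (S N : Subgroup M) [N.Normal] : S.relIndex N ∣ S.index := by
  have h1 := relIndex_mul_relIndex (S ⊓ N) S (S ⊔ N) inf_le_left le_sup_left
  have h2 := relIndex_mul_relIndex (S ⊓ N) N (S ⊔ N) inf_le_right le_sup_right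
  rw [inf_relIndex_left] at h1
  rw [inf_relIndex_right, relIndex_sup_right, ← h1, mul_comm] at h2
  rw [Nat.eq_of_mul_eq_mul_left (Nat.pos_of_ne_zero FiniteIndex.index_ne_zero) h2]
  exact relIndex_dvd_index_of_le le_sup_left

variable {G : Type*} [Group G] [Finite G]

/-- an invariant Sylow subgroup -/
theorem exists_S {A E : Subgroup G} (pE : IsPGroup 2 E) (hn : ∀ e ∈ E, cj e A = A) :
    ∃ S ≤ A, IsPGroup 2 S ∧ Odd (S.relIndex A) ∧ E ⊓ A ≤ S ∧ ∀ e ∈ E, ∀ s ∈ S, e * s * e⁻¹ ∈ S := by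
  obtain ⟨Q, hQ⟩ := (pE.comap_subtype (K := normalizer (A : Set G))).exists_le_sylow
  have m : ∀ e ∈ E, e ∈ Q.1.map (normalizer (A : Set G)).subtype := fun e he =>
    ⟨⟨e, mem_norm.2 (hn e he)⟩, hQ he, rfl⟩
  refine ⟨Q.1.map (normalizer (A : Set G)).subtype ⊓ A, inf_le_right, (Q.2.map _).to_inf_left, ?_,
    fun e he => ⟨m e he.1, he.2⟩, fun e he s hs =>
      ⟨Subgroup.mul_mem _ (Subgroup.mul_mem _ (m e he) hs.1) (Subgroup.inv_mem _ (m e he)),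
        conj_mem (hn e he) hs.2⟩⟩
  rw [inf_relIndex_right, ← relIndex_subgroupOf le_normalizer, subgroupOf,
    comap_map_eq_self_of_injective (subtype_injective _)]
  exact Nat.odd_iff.2 (Nat.two_dvd_ne_zero.1 fun h => Q.not_dvd_index (h.trans (rel_dvd _ _)))

theorem mem_sup' {V W : Subgroup G} (h : ∀ k ∈ W, ∀ v ∈ V, k * v * k⁻¹ ∈ V) {g : G} (hg : g ∈ V ⊔ W) :
    ∃ v ∈ V, ∃ k ∈ W, g = v * k := by
  have := coe_mul_of_right_le_normalizer_left V W fun k hk => mem_norm.2 (cj_eq_of_le (h k hk))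
  rw [← SetLike.mem_coe, this] at hg
  obtain ⟨v, hv, k, hk, e⟩ := hg
  exact ⟨v, hv, k, hk, e.symm⟩

theorem exists_sq {P : Subgroup G} : ∀ (k : ℕ) {s : G}, s ∉ P → s ^ 2 ^ k = 1 → ∃ j : ℕ, s ^ j ∉ P ∧ s ^ j * s ^ j ∈ P
  | 0, s, h, e => absurd (by rw [show s = 1 by simpa using e]; exact one_mem P) h
  | k + 1, s, h, e => by
    by_cases h2 : s ^ 2 ∈ P
    · exact ⟨1, by rwa [pow_one], by rwa [pow_one, ← pow_two]⟩
    · obtain ⟨j, hj⟩ := exists_sq k h2 (by rw [← pow_mul, ← pow_succ', e])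
      exact ⟨2 * j, by rwa [pow_mul]⟩

/-- a pair with `2`-subgroups of the largest possible order -/
structure Cf (T : Ti G) (A B P Q : Subgroup G) : Prop where
  hA : A ∈ T.K
  hB : B ∈ T.K
  ne : A ≠ B
  np : U A B ≠ A
  le : P ≤ U A B
  le' : Q ≤ U B A
  pP : IsPGroup 2 P
  pQ : IsPGroup 2 Q
  card : Nat.card P = Nat.card Q
  bot : P ≠ ⊥
  max : ∀ D ∈ T.K, ∀ D' ∈ T.K, D ≠ D' → U D D' ≠ D → ∀ R ≤ U D D', IsPGroup 2 R → Nat.card R ≤ Nat.card P
  ns : ∀ A' B', ¬ T.Sy A' B'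

namespace Cf

variable {T : Ti G} {A B P Q S D : Subgroup G} (h : Cf T A B P Q)
include h

theorem symm : Cf T B A Q P :=
  ⟨h.hB, h.hA, h.ne.symm, Ti.U_ne_symm h.hA h.hB h.ne h.np, h.le', h.le, h.pQ, h.pP, h.card.symm,
    fun e => h.bot (card_eq_one.1 (by rw [h.card, e, card_bot])), h.card ▸ h.max, h.ns⟩

theorem PA : P ≤ A := h.le.trans (U_le A B)

theorem pq {u v : G} (hu : u ∈ P) (hv : v ∈ Q) : u * v = v * u :=
  Ti.U_comm h.hA h.hB h.ne (h.le hu) (h.le' hv)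

theorem pp {u v : G} (hu : u ∈ P) (hv : v ∈ P) : u * v = v * u :=
  Ti.two_comm h.hB h.hA h.ne.symm h.symm.np h.le h.pP hu hv

theorem dec {e : G} (he : e ∈ P ⊔ Q) : ∃ u ∈ P, ∃ v ∈ Q, e = u * v :=
  mem_sup' (fun k hk v hv => by rw [← h.pq hv hk, mul_inv_cancel_right]; exact hv) he

theorem ee {e e' : G} (he : e ∈ P ⊔ Q) (he' : e' ∈ P ⊔ Q) : e * e' = e' * e := by
  obtain ⟨u, hu, v, hv, rfl⟩ := h.dec he
  obtain ⟨u', hu', v', hv', rfl⟩ := h.dec he'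
  exact (Commute.mul_left (Commute.mul_right (h.pp hu hu') (h.pq hu hv'))
    (Commute.mul_right (h.pq hu' hv).symm (h.symm.pp hv hv'))).eq

theorem pE : IsPGroup 2 (P ⊔ Q : Subgroup G) :=
  h.pP.to_sup_of_normal_right' h.pQ fun _ hu => mem_norm.2 (cj_eq_of_comm fun _ hv => h.pq hu hv)

theorem EA {e : G} (he : e ∈ P ⊔ Q) : cj e A = A := by
  obtain ⟨u, hu, v, hv, rfl⟩ := h.dec he
  rw [cj_mul, (mem_U.1 (h.le' hv)).2, cj_self (h.PA hu)]

theorem inf : A ⊓ (P ⊔ Q) = P := by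
  refine le_antisymm (fun e he => ?_) (le_inf h.PA le_sup_left)
  obtain ⟨u, hu, v, hv, rfl⟩ := h.dec he.2
  rw [Ti.disj h.hA h.hB h.ne ((mul_mem_cancel_left (h.PA hu)).1 he.1) (h.symm.PA hv), mul_one]
  exact hu

/-- `P` is a maximal `2`-subgroup of every proper `U A D` containing it -/
theorem eq_P (hD : D ∈ T.K) (ne : A ≠ D) (np : U A D ≠ A) (le : P ≤ S) (le' : P ≤ U A D) (pS : IsPGroup 2 S) :
    S ⊓ U A D = P :=
  (eq_of_le_of_card_ge (le_inf le le') (h.max A h.hA D hD ne np _ inf_le_right pS.to_inf_left)).symm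

theorem oddP : Odd (P.relIndex (U A B)) := by
  obtain ⟨S, le, pS, o, le', -⟩ := exists_S (A := U A B) h.pP fun e he => cj_self (h.le he)
  rwa [← h.eq_P h.hB h.ne h.np ((le_inf le_rfl h.le).trans le') h.le pS, inf_relIndex_right]

theorem lt (o : Odd (S.relIndex A)) : ¬ S ≤ U A B := fun le =>
  h.ns A B ⟨h.hA, h.hB, h.ne, h.np, o.of_dvd_nat (relIndex_dvd_of_le_left A le)⟩

theorem fixD (hD : D ∈ T.K) (c : Nat.card (D ⊓ (P ⊔ Q) : Subgroup G) = Nat.card P) {e : G} (he : e ∈ P ⊔ Q) :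
    cj e D = D := by
  obtain ⟨⟨d, hd⟩, d1⟩ := (ne_bot_iff_exists_ne_one (H := D ⊓ (P ⊔ Q))).1
    fun f => h.bot (card_eq_one.1 (by rw [← c, f, card_bot]))
  exact Ti.norm_of_comm hD hd.1 (fun f => d1 (Subtype.ext f)) (h.ee he hd.2)

section

variable (SA : S ≤ A) (pS : IsPGroup 2 S) (o : Odd (S.relIndex A)) (PS : P ≤ S)
include SA pS o PS

theorem full (hD : D ∈ T.K) (c : Nat.card (D ⊓ (P ⊔ Q) : Subgroup G) = Nat.card P) (ne : A ≠ D) : U A D ≠ A := by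
  intro f
  have cW : ∀ w ∈ D ⊓ (P ⊔ Q), ∀ a ∈ A, w * a = a * w := fun w hw a ha =>
    (Ti.U_comm h.hA hD ne (f.symm ▸ ha) (mem_U.2 ⟨hw.1, h.EA hw.2⟩)).symm
  choose u hu v hv e using fun w : (D ⊓ (P ⊔ Q) : Subgroup G) => h.dec w.2.2
  have sur := (Function.Injective.bijective_of_nat_card_le (f := fun w => (⟨u w, hu w⟩ : P)) (fun w w' g => by
    have e1 : (w : G)⁻¹ * w' = (v w)⁻¹ * v w' := by
      rw [e w, e w', show u w = u w' from congrArg Subtype.val g]; group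
    have := Ti.eq_one_of_cent h.hA h.hB h.ne h.np (h.le' (mul_mem (inv_mem (hv w)) (hv w')))
      (e1 ▸ cW _ (mul_mem (inv_mem w.2) w'.2))
    exact Subtype.ext (inv_mul_eq_one.1 (e1.trans this))) c.ge).2
  have cP : ∀ x ∈ P, x ≠ 1 → ∀ a ∈ A, a * x = x * a → a ∈ U A B := fun x hx x1 a ha ax => by
    obtain ⟨w, hw⟩ := sur ⟨x, hx⟩
    obtain rfl : u w = x := congrArg Subtype.val hw
    have c1 := cW _ w.2
    rw [e w] at c1
    refine (Ti.cent_iff h.hA h.hB h.ne (h.le' (hv w)) (fun v1 => x1 ?_) ha).1 ?_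
    · exact (T.ss h.hA).zc _ (h.PA hx) (by simpa only [v1, mul_one] using c1)
    · have := c1 a ha
      rw [← mul_assoc, ax, mul_assoc, mul_assoc, mul_right_inj] at this
      exact this.symm
  obtain ⟨⟨x, hx⟩, x1⟩ := ne_bot_iff_exists_ne_one.1 h.bot
  obtain ⟨z, hz, z1, -, cz⟩ := H97.ONT.exists_cent_inv pS pS (fun g => h.bot (eq_bot_iff.2 (g ▸ PS)))
    fun a ha b hb => mul_mem (mul_mem ha hb) (inv_mem ha)
  have zP : z ∈ P := h.eq_P h.hB h.ne h.np PS h.le pS ▸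
    ⟨hz, cP x hx (fun g => x1 (Subtype.ext g)) z (SA hz) (cz x (PS hx)).symm⟩
  exact h.lt o fun s hs => cP z zP z1 s (SA hs) (cz s hs)

theorem exists_r (nS : ∀ e ∈ P ⊔ Q, ∀ s ∈ S, e * s * e⁻¹ ∈ S) : ∃ r, cj r (P ⊔ Q) = P ⊔ Q ∧ r * r ∈ P ⊔ Q ∧
    ∀ D ∈ T.K, Nat.card (D ⊓ (P ⊔ Q) : Subgroup G) = Nat.card P → (cj r D = D ↔ D = A) := by
  have n : ∀ k ∈ Q, ∀ s ∈ S, k * s * k⁻¹ ∈ S := fun k hk => nS k (mem_sup_right hk)
  obtain ⟨x, hx, xE, nx⟩ := H97.ONT.exists_norm_of_lt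
    (pS.to_sup_of_normal_left' h.pQ fun k hk => mem_norm.2 (cj_eq_of_le (n k hk))) (sup_le_sup_right PS Q)
    fun e => h.lt o (((le_inf SA (le_sup_left.trans e.ge)).trans h.inf.le).trans h.le)
  obtain ⟨s, hs, v, hv, rfl⟩ := mem_sup' n hx
  have sN : s ∈ normalizer ((P ⊔ Q : Subgroup G) : Set G) :=
    (mul_mem_cancel_right (le_normalizer (mem_sup_right hv))).1 (mem_norm.2 (cj_eq_of_le nx))
  obtain ⟨k, hk⟩ := pS ⟨s, hs⟩
  obtain ⟨j, j1, j2⟩ := exists_sq (P := P) k (fun m => xE (mul_mem (mem_sup_left m) (mem_sup_right hv)))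
    (congrArg Subtype.val hk)
  refine ⟨s ^ j, mem_norm.1 (pow_mem sN j), mem_sup_left j2, fun D hD c =>
    ⟨fun f => by_contra fun ne => j1 ?_, fun f => f ▸ cj_self (f ▸ SA (pow_mem hs j))⟩⟩
  rw [← h.eq_P hD (Ne.symm ne) (h.full SA pS o PS hD c (Ne.symm ne)) PS
    (fun u hu => mem_U.2 ⟨h.PA hu, h.fixD hD c (mem_sup_left hu)⟩) pS]
  exact ⟨pow_mem hs j, mem_U.2 ⟨SA (pow_mem hs j), f⟩⟩

end

theorem exists_S' : ∃ S ≤ A, IsPGroup 2 S ∧ Odd (S.relIndex A) ∧ P ≤ S ∧ ∀ e ∈ P ⊔ Q, ∀ s ∈ S, e * s * e⁻¹ ∈ S := by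
  obtain ⟨S, h1, h2, h3, h4, h5⟩ := exists_S h.pE fun e he => h.EA he
  exact ⟨S, h1, h2, h3, (le_inf le_sup_left h.PA).trans h4, h5⟩

theorem exists_w : ∃ w, (∀ t ∈ P, w * t * w⁻¹ ∈ Q) ∧ ∀ t ∈ Q, w * t * w⁻¹ ∈ P := by
  obtain ⟨S, SA, pS, o, PS, nS⟩ := h.exists_S'
  obtain ⟨r, r1, r2, r3⟩ := h.exists_r SA pS o PS nS
  obtain ⟨S', SA', pS', o', PS', nS'⟩ := h.symm.exists_S'
  obtain ⟨s, s1, s2, s3⟩ := h.symm.exists_r SA' pS' o' PS' nS'
  have iB := h.symm.inf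
  rw [sup_comm Q P, ← h.card] at s3
  rw [sup_comm Q P] at s1 s2 iB
  have inv : ∀ g, cj g (P ⊔ Q) = P ⊔ Q → ∀ D : Subgroup G,
      D ∈ T.K ∧ Nat.card (D ⊓ (P ⊔ Q) : Subgroup G) = Nat.card P →
      cj g D ∈ T.K ∧ Nat.card (cj g D ⊓ (P ⊔ Q) : Subgroup G) = Nat.card P := fun g hg D hD =>
    ⟨T.cjm g hD.1, by rw [← hD.2, ← card_cj g (D ⊓ (P ⊔ Q)), cj_inf, hg]⟩
  obtain ⟨w, hw, wa, wb⟩ := exists_swap (G := G) (Y := Sg G)
    (O := {D | D ∈ T.K ∧ Nat.card (D ⊓ (P ⊔ Q) : Subgroup G) = Nat.card P}) (Set.toFinite _) (a := A) (b := B)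
    ⟨h.hA, by rw [h.inf]⟩ h.ne (inv r r1) (inv s s1)
    (fun D hD => (mul_smul r r D).symm.trans (h.fixD hD.1 hD.2 r2))
    (fun D hD => (mul_smul s s D).symm.trans (h.fixD hD.1 hD.2 s2))
    (fun D hD => r3 D hD.1 hD.2) fun D hD => (s3 D hD.1 hD.2).1
  have wN : cj w (P ⊔ Q) = P ⊔ Q := mem_norm.1 ((closure_le _).2 (by
    rintro _ (rfl | rfl)
    exacts [mem_norm.2 r1, mem_norm.2 s1]) hw)
  refine ⟨w, fun t ht => ?_, fun t ht => ?_⟩
  · rw [← iB]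
    exact ⟨(show cj w A = B from wa) ▸ cj_mem (h.PA ht), conj_mem wN (mem_sup_left ht)⟩
  · rw [← h.inf]
    exact ⟨(show cj w B = A from wb) ▸ cj_mem (h.symm.PA ht), conj_mem wN (mem_sup_right ht)⟩

theorem tw : Nonempty (H97.ONT.Tw G) := by
  obtain ⟨S, SA, pS, o, PS, nS⟩ := h.exists_S'
  obtain ⟨w, w1, w2⟩ := h.exists_w
  have ci := fun {k : G} (hk : k ∈ Q) (k1 : k ≠ 1) {n : G} (hn : n ∈ A) =>
    Ti.cent_iff h.hA h.hB h.ne (h.le' hk) k1 hn
  exact ⟨{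
    N := A, S := S, T := P, U := Q, w := w
    S_le := SA, T_le := PS, pS := pS, pU := h.pQ, oddS := o, wT := w1, wU := w2
    U_N := fun k hk n hn => conj_mem (mem_U.1 (h.le' hk)).2 hn
    U_S := fun k hk => nS k (mem_sup_right hk)
    comm := fun t ht k hk => h.pq ht hk
    disj := fun k hk hA => Ti.disj h.hA h.hB h.ne hA (h.symm.PA hk)
    cen := fun k hk k1 k' hk' n hn c => Ti.U_comm h.hA h.hB h.ne ((ci hk k1 hn).1 c) (h.le' hk')
    oddT := fun k hk k1 => by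
      rw [show A ⊓ centralizer {k} = U A B from le_antisymm
        (fun n hn => (ci hk k1 hn.1).1 (mem_centralizer_singleton_iff.1 hn.2))
        fun n hn => ⟨U_le A B hn, mem_centralizer_singleton_iff.2 ((ci hk k1 (U_le A B hn)).2 hn)⟩]
      exact h.oddP
    ti := fun g n hn n1 m _ hm =>
      conj_mem (T.ti (T.cjm g h.hA) h.hA (cj_mem hn) m fun e => n1 (conj_eq_one_iff.1 e)) hm
    T_ne := h.bot
    T_lt := fun e => h.lt o (e ▸ h.le)
    perf := (T.ss h.hA).perf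
    fmax := fun M hM n => (T.minn h.hA M hM fun g hg => n g fun _ ha => conj_mem hg ha).symm.imp_right
      fun e m hm a _ => by rw [e, mem_bot] at hm; rw [hm, mul_one, one_mul]
    zfix := fun _ _ _ z hz c _ => (T.ss h.hA).zc z hz c
    zodd := fun z hz c _ => (T.ss h.hA).zc z hz c }⟩

end Cf

end EVx

theorem Ti.exists_sy {G : Type*} [Group G] [Finite G] {T : Ti G} (hTw : IsEmpty (H97.ONT.Tw G))
    {A B : Subgroup G} (hA : A ∈ T.K) (hB : B ∈ T.K) (hne : A ≠ B) (hp : U A B ≠ A)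
    (he : Even (Nat.card (U A B))) : ∃ A' B' : Subgroup G, T.Sy A' B' := by
  by_contra! ns
  obtain ⟨t, ht, ti⟩ := exists_inv_of_even he
  have o2 : orderOf t = 2 := orderOf_eq_prime (by rw [pow_two, ti.2]) ti.1
  have p2 : IsPGroup 2 (zpowers t) := IsPGroup.of_card (n := 1) (by rw [Nat.card_zpowers, o2, pow_one])
  obtain ⟨P, ⟨D, hD, D', hD', ne, np, le, pP⟩, mx⟩ := Set.exists_max_image
    {R : Subgroup G | ∃ D ∈ T.K, ∃ D' ∈ T.K, D ≠ D' ∧ U D D' ≠ D ∧ R ≤ U D D' ∧ IsPGroup 2 R}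
    (fun R => Nat.card R) (Set.toFinite _) ⟨_, A, hA, B, hB, hne, hp, zpowers_le.2 ht, p2⟩
  obtain ⟨n, hn⟩ := IsPGroup.iff_card.1 pP
  obtain ⟨Q, hQ⟩ := Sylow.exists_subgroup_card_pow_prime (G := U D' D) 2 (n := n)
    (by rw [← hn, ← Ti.card_U hD hD' ne]; exact card_dvd_of_le le)
  rw [← card_map_of_injective (subtype_injective _)] at hQ
  refine hTw.false (EVx.Cf.tw (T := T) ⟨hD, hD', ne, np, le, map_subtype_le Q, pP, IsPGroup.of_card hQ,
    hn.trans hQ.symm, fun e => ?_, fun E hE E' hE' a b R c d => mx R ⟨E, hE, E', hE', a, b, c, d⟩, ns⟩).some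
  have := mx _ ⟨A, hA, B, hB, hne, hp, zpowers_le.2 ht, p2⟩
  rw [Nat.card_zpowers, o2, e, card_bot] at this
  omega

end H98.ON2
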