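import Cfsg.Agent.Lib.ON2.A1
import Cfsg.Agent.Lib.ON2.A2
import Cfsg.Agent.Lib.ZD.Main

/-! Some involution of a component fixes a second point. -/

set_option autoImplicit false
set_option linter.unusedSectionVars false

namespace H98.ON2

open Subgroup MulAction

variable {G X : Type*} [Group G] [Finite G] [MulAction G X] [Finite X]

/-- Theorem ZD for a faithful transitive action on a type in any universe. -/
theorem zd (htr : ∀ x y : X, ∃ g : G, g • x = y) (hf : ∀ g : G, (∀ x : X, g • x = x) → g = 1)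
    (x0 : X) {D : Set G} (h : H1.ZD.ZH X D) (hc : ∀ a : X, ∃ d ∈ D, d • a = a) {z : G}
    (hz : z ∈ closure D) (h2 : z * z = 1) : z = 1 ∨ z ∈ D := by
  let φ : G ⧸ stabilizer G x0 → X := ofQuotientStabilizer G x0
  have inj : Function.Injective φ := injective_ofQuotientStabilizer G x0
  have sm : ∀ (g : G) (q), φ (g • q) = g • φ q := ofQuotientStabilizer_smul G x0
  have surj : ∀ x, ∃ q, φ q = x := fun x => by
    obtain ⟨g, hg⟩ := htr x0 x
    exact ⟨QuotientGroup.mk g, hg⟩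
  have fx : ∀ (g : G) (q), g • q = q ↔ g • φ q = φ q := fun g q => by rw [← sm, inj.eq_iff]
  have h' : H1.ZD.ZH (G ⧸ stabilizer G x0) D :=
    { conj := h.conj
      ne_one := h.ne_one
      sq := h.sq
      ex := fun d hd => by
        obtain ⟨a, ha⟩ := h.ex d hd
        obtain ⟨q, rfl⟩ := surj a
        exact ⟨q, (fx d q).2 ha⟩
      uniq := fun d hd a b ha hb => inj (h.uniq d hd _ _ ((fx _ _).1 ha) ((fx _ _).1 hb))
      prod := fun d hd d' hd' hne hc a b ha hb =>
        inj (h.prod d hd d' hd' hne hc _ _ ((fx _ _).1 ha) ((fx _ _).1 hb)) }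
  rcases H1.ZD.core h' (fun q => by
      obtain ⟨d, hd, e⟩ := hc (φ q)
      exact ⟨d, hd, (fx d q).2 e⟩) hz (fun a => by rw [h2, one_smul]) with h1 | ⟨d, hd, h1⟩
  · exact .inl (hf z fun x => by
      obtain ⟨q, rfl⟩ := surj x
      exact (fx z q).1 (h1 q))
  · right
    have : d⁻¹ * z = 1 := hf _ fun x => by
      obtain ⟨q, rfl⟩ := surj x
      rw [mul_smul, ← sm z, h1, sm, inv_smul_smul]
    rwa [← inv_mul_eq_one.1 this]

theorem Cs.not_HA (C : Cs G X) (hA : C.HA) : False := by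
  let D : Set G := {t | Inv t ∧ ∃ x, ∃ K ∈ C.Cp x, t ∈ K}
  have h : H1.ZD.ZH X D :=
    { conj := fun d ⟨hi, _, K, hK, hd⟩ g => ⟨hi.conj g, _, _, C.cjC g hK, cj_mem hd⟩
      ne_one := fun d hd => hd.1.1
      sq := fun d hd => hd.1.2
      ex := fun d ⟨_, x, K, hK, hd⟩ => ⟨x, C.kfix hK hd⟩
      uniq := fun d ⟨hi, x, K, hK, hd⟩ a b ha hb => (hA hK hd hi ha).trans (hA hK hd hi hb).symm
      prod := by
        rintro d ⟨hi, x, K, hK, hd⟩ d' ⟨hi', y, L, hL, hd'⟩ hne hc a b ha hb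
        have e : d' • x = x := hA hK hd hi (by rw [← mul_smul, hc, mul_smul, C.kfix hK hd])
        obtain rfl : x = y := hA hL hd' hi' e
        by_cases hKL : K = L
        · subst hKL
          exact (hA hK (mul_mem hd hd') (hi.mul hi' hne hc) ha).trans
            (hA hK (mul_mem hd hd') (hi.mul hi' hne hc) hb).symm
        · have hs : C.S2 x (d * d') := ⟨K, hK, L, hL, hKL, d, hd, d', hd', hi, hi', rfl⟩
          exact (hA.s2_fix hA.s2_uniq hs ha).trans (hA.s2_fix hA.s2_uniq hs hb).symm }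
  obtain ⟨x, -, -⟩ := C.tr.nt
  obtain ⟨K, hK, L, hL, hKL⟩ := C.two_c x
  obtain ⟨s, hs, si⟩ := exists_inv_of_even (C.ss hK).even
  obtain ⟨t, ht, ti⟩ := exists_inv_of_even (C.ss hL).even
  have hc := C.comm hK hL hKL
  have hne : s ≠ t := fun e => si.1 (C.disj hK hL hKL hs (e ▸ ht))
  have hw := si.mul ti hne (hc s hs t ht)
  rcases zd C.tr.trans (fun _ => C.tr.faith) x h (fun a => by
      obtain ⟨K, hK, -⟩ := C.two_c a
      obtain ⟨s, hs, si⟩ := exists_inv_of_even (C.ss hK).even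
      exact ⟨s, ⟨si, a, K, hK, hs⟩, C.kfix hK hs⟩)
    (mul_mem (subset_closure ⟨si, x, K, hK, hs⟩) (subset_closure ⟨ti, x, L, hL, ht⟩)) hw.2
    with h1 | ⟨-, y, M, hM, hm⟩
  · exact hw.1 h1
  · obtain rfl : x = y := hA hM hm hw (by rw [mul_smul, C.kfix hL ht, C.kfix hK hs])
    by_cases e : M = K
    · subst e
      exact ti.1 (C.disj hK hL hKL ((mul_mem_cancel_left hs).1 hm) ht)
    · refine si.1 ((C.ss hK).zc s hs fun k hk => mul_right_cancel (b := t) ?_)
      have h1 := C.comm hM hK e _ hm k hk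
      rw [mul_assoc s k, hc k hk t ht, ← mul_assoc, h1, mul_assoc]

end H98.ON2
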