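import Cfsg.Agent.Lib.ON2.Bas

/-! A collineation with two centres is trivial. -/

set_option autoImplicit false
set_option linter.unusedSectionVars false

namespace H98.ON2

open Subgroup

variable {G X : Type*} [Group G] [Finite G] [MulAction G X] [Finite X]

theorem Ln.third (h : Tr G X) (L : Ln G X) {x y : X} (hxy : x ≠ y) : ∃ z ∈ L.l x y, z ≠ x ∧ z ≠ y := by
  by_contra hc
  push Not at hc
  refine L.ne x (eq_bot_iff.2 fun m hm => h.faith fun v => ?_)
  by_cases e : x = v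
  · exact e ▸ L.fix hm
  obtain ⟨g, h1, h2⟩ := h.two e hxy
  have := L.smul g e (L.inv e hm (L.right e))
  rw [h1, h2] at this
  exact smul_left_cancel g ((hc _ this fun c =>
    e (smul_left_cancel m ((L.fix hm).trans (smul_left_cancel g (h1.trans c.symm))))).trans h2.symm)

theorem Ln.two_centre (h : Tr G X) (L : Ln G X) {x y : X} (hxy : x ≠ y) {e : G}
    (hx : e ∈ L.M x) (hy : e ∈ L.M y) : e = 1 := by
  have off : ∀ z, z ∉ L.l x y → e • z = z := fun z hz => by
    by_contra c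
    have xz : x ≠ z := fun a => hz (a ▸ L.left hxy)
    have yz : y ≠ z := fun a => hz (a ▸ L.right hxy)
    have e1 := L.eq xz (L.right xz) (L.inv xz hx (L.right xz)) (Ne.symm c)
    have e2 := L.eq yz (L.right yz) (L.inv yz hy (L.right yz)) (Ne.symm c)
    exact hz (L.eq xz (L.left xz) (e1 ▸ e2 ▸ L.left yz) hxy ▸ L.right xz)
  refine h.faith fun z => by_contra fun c => ?_
  have hz : z ∈ L.l x y := by_contra fun a => c (off z a)
  obtain ⟨p, hp⟩ := L.prop hxy
  have zp : z ≠ p := fun a => hp (a ▸ hz)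
  obtain ⟨p', h1, h2, h3⟩ := L.third h zp
  have hp' : p' ∉ L.l x y := fun a =>
    hp (L.eq hxy hz a h2.symm ▸ (L.eq zp (L.left zp) h1 h2.symm).symm ▸ L.right zp)
  have e1 := L.eq zp (L.right zp) h1 h3.symm
  have := L.smul e h3.symm (e1.symm ▸ L.left zp)
  rw [off p hp, off p' hp', e1] at this
  exact hp (L.eq hxy hz (L.inv hxy hx hz) (Ne.symm c) ▸ (L.eq zp (L.left zp) this (Ne.symm c)).symm ▸ L.right zp)

theorem Mn.not_comm (A B : Mn G X)
    (hA : ∀ {x y : X}, x ≠ y → ∃ d : G, d ≠ 1 ∧ d ∈ A.N x ∧ d ∈ A.N y)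
    (hB : ∀ {x y : X}, x ≠ y → ∃ d : G, d ≠ 1 ∧ d ∈ B.N x ∧ d ∈ B.N y)
    (hc : ∀ x : X, ∀ a ∈ A.N x, ∀ b ∈ B.N x, a * b = b * a) : False := by
  let L : Ln G X :=
    { l := fun x y => {z | A.N x ⊓ A.N y ≤ A.N z}
      M := B.N
      left := fun _ _ h => h.1
      right := fun _ _ h => h.2
      eq := fun {x y u v} hxy hu hv huv => by
        rw [eq_of_le_of_card_ge (le_inf hu hv) (by
          obtain ⟨g, rfl, rfl⟩ := A.tr.two hxy huv
          rw [← A.cjN, ← A.cjN, ← cj_inf, card_cj])]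
      smul := fun g x y z _ hz => by
        rw [Set.mem_ofPred_eq]
        rw [← A.cjN, ← A.cjN, ← A.cjN, ← cj_inf]
        exact cj_le_cj.2 hz
      prop := fun hxy => by
        by_contra c
        push Not at c
        obtain ⟨d, d1, hd⟩ := hA hxy
        exact d1 (A.tr.faith fun z => A.fix (c z hd))
      fix := B.fix
      inv := fun {x y z m} _ hm hz => by
        rw [Set.mem_ofPred_eq]
        rw [← A.cjN m z, ← cj_eq_of_comm (g := m) (K := A.N x ⊓ A.N y) fun a ha => (hc x a ha.1 m hm).symm]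
        exact cj_le_cj.2 hz
      cjM := B.cjN
      ne := fun x => (B.ss x).ne }
  obtain ⟨x, y, hxy⟩ := A.tr.nt
  obtain ⟨d, d1, h1, h2⟩ := hB hxy
  exact d1 (L.two_centre A.tr hxy h1 h2)

theorem Cs.ub (C : Cs G X) : C.Ub := fun {x₀ y₀ K} hx hy => by
  by_contra hne
  have im : ∀ (g : G) (x y : X), cj g '' (C.Cp x ∩ C.Cp y) = C.Cp (g • x) ∩ C.Cp (g • y) := fun g x y =>
    Set.Subset.antisymm (by rintro _ ⟨L, hL, rfl⟩; exact ⟨C.cjC g hL.1, C.cjC g hL.2⟩) fun L hL =>
      ⟨cj g⁻¹ L, ⟨C.cjC' (inv_smul_smul g x) hL.1, C.cjC' (inv_smul_smul g y) hL.2⟩, cj_cj_inv g L⟩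
  let L : Ln G X :=
    { l := fun x y => {z | C.Cp x ∩ C.Cp y ⊆ C.Cp z}
      M := C.N
      left := fun _ => Set.inter_subset_left
      right := fun _ => Set.inter_subset_right
      eq := fun {x y u v} hxy hu hv huv => by
        rw [Set.eq_of_subset_of_ncard_le (Set.subset_inter hu hv) (by
          obtain ⟨g, rfl, rfl⟩ := C.tr.two hxy huv
          rw [← im, Set.ncard_image_of_injective _ fun _ _ => cj_inj.1])]
      smul := fun g x y z _ hz => by
        rw [Set.mem_ofPred_eq]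
        rw [← im]
        rintro _ ⟨L, hL, rfl⟩
        exact C.cjC g (hz hL)
      prop := fun hxy => by
        by_contra c
        push Not at c
        obtain ⟨g, rfl, rfl⟩ := C.tr.two hne hxy
        exact (C.ss (C.cjC g hx)).ne (eq_bot_iff.2 fun d hd =>
          C.tr.faith fun z => C.kfix (c z ⟨C.cjC g hx, C.cjC g hy⟩) hd)
      fix := C.fix
      inv := fun {x y z m} _ hm hz L hL => C.nrm hm hL.1 ▸ C.cjC m (hz hL)
      cjM := C.cjN
      ne := fun x e => by
        obtain ⟨L, hL, -⟩ := C.two_c x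
        exact (C.ss hL).ne (eq_bot_iff.2 ((C.le hL).trans e.le)) }
  obtain ⟨d, d1, h1, h2⟩ := C.dne hne
  exact d1 (L.two_centre C.tr hne h1 h2)

end H98.ON2
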