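import Cfsg.Agent.Lib.ON2.Bas

set_option autoImplicit false
set_option linter.unusedSectionVars false

namespace H98.ON2

open Subgroup

namespace TopX

variable {G : Type*} [Group G] [Finite G]

theorem cj_comm (g : G) (K L : Subgroup G) : cj g ⁅K, L⁆ = ⁅cj g K, cj g L⁆ :=
  map_commutator K L _

theorem cj_eq_bot {g : G} {K : Subgroup G} : cj g K = ⊥ ↔ K = ⊥ := by
  rw [← cj_inj (g := g) (K := K), cj_bot]

theorem cj_inv_le {g : G} {K L : Subgroup G} (h : K ≤ cj g L) : cj g⁻¹ K ≤ L := by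
  have := (cj_le_cj (g := g⁻¹)).2 h
  rwa [cj_inv_cj] at this

theorem cj_inv_eq' {g : G} {K L : Subgroup G} (h : cj g⁻¹ K = ⊥ ∨ cj g⁻¹ K = L) :
    K = ⊥ ∨ K = cj g L := by
  rcases h with h | h
  · exact Or.inl (cj_eq_bot.1 h)
  · exact Or.inr (by rw [← h, cj_cj_inv])

theorem norm_back {g : G} {K O : Subgroup G}
    (h : ∀ k ∈ cj g K, ∀ m ∈ O, k * m * k⁻¹ ∈ O) :
    ∀ k ∈ K, ∀ m ∈ cj g⁻¹ O, k * m * k⁻¹ ∈ cj g⁻¹ O := by
  intro k hk m hm
  rw [mem_cj] at hm ⊢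
  have := h _ (cj_mem (g := g) hk) _ hm
  convert this using 1
  group

theorem ss_cj {K : Subgroup G} (h : Ss K) (g : G) : Ss (cj g K) where
  ne := fun e => h.ne (cj_eq_bot.1 e)
  perf := by rw [← cj_comm, h.perf]
  zc := by
    intro z hz hc
    have h1 : g⁻¹ * z * g = 1 := by
      refine h.zc _ (mem_cj.1 hz) fun a ha => ?_
      have := hc _ (cj_mem (g := g) ha)
      calc g⁻¹ * z * g * a = g⁻¹ * (z * (g * a * g⁻¹)) * g := by group
        _ = g⁻¹ * (g * a * g⁻¹ * z) * g := by rw [this]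
        _ = a * (g⁻¹ * z * g) := by group
    calc z = g * (g⁻¹ * z * g) * g⁻¹ := by group
      _ = 1 := by rw [h1]; group
  noodd := by
    intro O hO hn ho
    exact cj_eq_bot.1 (h.noodd (cj g⁻¹ O) (cj_inv_le hO) (norm_back hn) (by rwa [card_cj]))

theorem comm_of_bot {K : Subgroup G} (h : ⁅K, K⁆ = ⊥) : ∀ a ∈ K, ∀ b ∈ K, a * b = b * a := by
  intro a ha b hb
  have := commutator_mem_commutator ha hb
  rw [h, mem_bot] at this
  exact commutatorElement_eq_one_iff_mul_comm.1 this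

theorem comm_le (K : Subgroup G) : ⁅K, K⁆ ≤ K :=
  commutator_le.2 fun a ha b hb => by
    rw [commutatorElement_def]
    exact K.mul_mem (K.mul_mem (K.mul_mem ha hb) (K.inv_mem ha)) (K.inv_mem hb)

theorem comm_ne {K : Subgroup G} (ho : Odd (Nat.card K)) (hK : K ≠ ⊥) : ⁅K, K⁆ ≠ K := by
  intro e
  haveI := Cfsg.Agent.S0205.result ho
  haveI : Nontrivial K := (nontrivial_iff_ne_bot K).2 hK
  have h1 := Group.IsSolvable.commutator_lt_top_of_nontrivial (G := K)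
  apply h1.ne
  apply map_injective (f := K.subtype) K.subtype_injective
  rw [_root_.commutator_def, map_commutator, ← MonoidHom.range_eq_map, range_subtype, e]

/-- The elements of order dividing `p` in an abelian subgroup. -/
def om (A : Subgroup G) (hA : ∀ a ∈ A, ∀ b ∈ A, a * b = b * a) (p : ℕ) : Subgroup G where
  carrier := {a | a ∈ A ∧ a ^ p = 1}
  one_mem' := ⟨A.one_mem, one_pow p⟩
  mul_mem' := fun {a b} ha hb => ⟨A.mul_mem ha.1 hb.1, by
    rw [Commute.mul_pow (hA a ha.1 b hb.1), ha.2, hb.2, one_mul]⟩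
  inv_mem' := fun {a} ha => ⟨A.inv_mem ha.1, by rw [inv_pow, ha.2, inv_one]⟩

theorem ab_bot {N A : Subgroup G}
    (hp : ∀ (p : ℕ) (P : Subgroup G), p.Prime → IsPGroup p P → P ≤ N →
      (∀ n ∈ N, ∀ m ∈ P, n * m * n⁻¹ ∈ P) → P = ⊥)
    (hA : A ≤ N) (hn : ∀ n ∈ N, ∀ m ∈ A, n * m * n⁻¹ ∈ A)
    (hc : ∀ a ∈ A, ∀ b ∈ A, a * b = b * a) : A = ⊥ := by
  by_contra h1
  have h2 : Nat.card A ≠ 1 := fun e => h1 (card_eq_one.1 e)
  obtain ⟨p, pp, hd⟩ := Nat.exists_prime_and_dvd h2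
  haveI := Fact.mk pp
  obtain ⟨x, hx⟩ := exists_prime_orderOf_dvd_card' p hd
  have h3 : om A hc p = ⊥ := by
    refine hp p _ pp (fun y => ⟨1, Subtype.ext (by simpa using y.2.2)⟩)
      (fun y hy => hA hy.1) fun n hn' m hm => ⟨hn n hn' m hm.1, ?_⟩
    rw [conj_pow, hm.2]; group
  have h4 : (x : G) ∈ om A hc p := ⟨x.2, by
    have := pow_orderOf_eq_one x
    rw [hx] at this
    simpa using congrArg Subtype.val this⟩
  rw [h3, mem_bot] at h4
  have : x = 1 := Subtype.ext h4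
  rw [this, orderOf_one] at hx
  exact pp.one_lt.ne hx

/-- `K` is a minimal normal subgroup of `N`. -/
structure Mi (N K : Subgroup G) : Prop where
  le : K ≤ N
  ne : K ≠ ⊥
  nrm : ∀ n ∈ N, ∀ k ∈ K, n * k * n⁻¹ ∈ K
  minn : ∀ M ≤ K, (∀ n ∈ N, ∀ m ∈ M, n * m * n⁻¹ ∈ M) → M = ⊥ ∨ M = K

theorem Mi.cj {N K : Subgroup G} (h : Mi N K) (g : G) : Mi (cj g N) (cj g K) where
  le := cj_le_cj.2 h.le
  ne := fun e => h.ne (cj_eq_bot.1 e)
  nrm := by
    intro n hn k hk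
    rw [mem_cj] at hn hk ⊢
    have := h.nrm _ hn _ hk
    convert this using 1
    group
  minn := fun M hM hn => cj_inv_eq' (h.minn _ (cj_inv_le hM) (norm_back hn))

theorem Mi.comm {N K L : Subgroup G} (h : Mi N K) (h' : Mi N L) (hne : K ≠ L) :
    ∀ a ∈ K, ∀ b ∈ L, a * b = b * a := by
  have h1 : K ⊓ L = ⊥ := by
    rcases h.minn (K ⊓ L) inf_le_left
      (fun n hn m hm => ⟨h.nrm n hn m hm.1, h'.nrm n hn m hm.2⟩) with e | e
    · exact e
    · rcases h'.minn K (inf_eq_left.1 e) h.nrm with e' | e'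
      · exact absurd e' h.ne
      · exact absurd e' hne
  intro a ha b hb
  have h2 : a * b * a⁻¹ * b⁻¹ ∈ K ⊓ L := by
    refine ⟨?_, L.mul_mem (h'.nrm a (h.le ha) b hb) (L.inv_mem hb)⟩
    have := K.mul_mem ha (h.nrm b (h'.le hb) _ (K.inv_mem ha))
    show a * b * a⁻¹ * b⁻¹ ∈ K
    simpa only [mul_assoc] using this
  rw [h1, mem_bot] at h2
  calc a * b = a * b * a⁻¹ * b⁻¹ * (b * a) := by group
    _ = b * a := by rw [h2, one_mul]

theorem exists_mi {N : Subgroup G} (hN : N ≠ ⊥) : ∃ K, Mi N K := by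
  obtain ⟨K, hK, hmin⟩ := (wellFounded_lt (α := Subgroup G)).has_min
    {K | K ≤ N ∧ K ≠ ⊥ ∧ ∀ n ∈ N, ∀ k ∈ K, n * k * n⁻¹ ∈ K}
    ⟨N, le_rfl, hN, fun n hn k hk => N.mul_mem (N.mul_mem hn hk) (N.inv_mem hn)⟩
  refine ⟨K, hK.1, hK.2.1, hK.2.2, fun M hM hn => ?_⟩
  by_contra hc
  push Not at hc
  exact hmin M ⟨hM.trans hK.1, hc.1, hn⟩ (lt_of_le_of_ne hM hc.2)

end TopX

open TopX

variable {G X : Type*} [Group G] [Finite G] [MulAction G X] [Finite X]

theorem Tr.exists_mn (h : Tr G X) (a : X)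
    (hl : ∀ (p : ℕ) (P : Subgroup G), p.Prime → IsPGroup p P → (∀ g ∈ P, g • a = a) →
      (∀ g : G, g • a = a → cj g P = P) → P = ⊥)
    {M : Subgroup G} (hM : ∀ g ∈ M, g • a = a) (hn : ∀ g : G, g • a = a → cj g M = M)
    (h1 : M ≠ ⊥) : ∃ C : Mn G X, C.N a ≤ M := by
  obtain ⟨N, ⟨hNM, hN1, hNn⟩, hmin⟩ := (wellFounded_lt (α := Subgroup G)).has_min
    {K | K ≤ M ∧ K ≠ ⊥ ∧ ∀ g : G, g • a = a → cj g K = K} ⟨M, le_rfl, h1, hn⟩
  have hmn : ∀ P ≤ N, (∀ g : G, g • a = a → ∀ m ∈ P, g * m * g⁻¹ ∈ P) → P = ⊥ ∨ P = N := by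
    intro P hP hi
    by_contra hc
    push Not at hc
    exact hmin P ⟨hP.trans hNM, hc.1, fun g hg => cj_eq_of_le (hi g hg)⟩ (lt_of_le_of_ne hP hc.2)
  have hfix : ∀ n ∈ N, n • a = a := fun n hn => hM n (hNM hn)
  -- no normal `p`-subgroup
  have hp : ∀ (p : ℕ) (P : Subgroup G), p.Prime → IsPGroup p P → P ≤ N →
      (∀ n ∈ N, ∀ m ∈ P, n * m * n⁻¹ ∈ P) → P = ⊥ := by
    intro p P pp hP hPN hPn
    obtain ⟨Q, ⟨hPQ, hQ, hQN, hQn⟩, hmax⟩ := (wellFounded_gt (α := Subgroup G)).has_min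
      {Q | P ≤ Q ∧ IsPGroup p Q ∧ Q ≤ N ∧ ∀ n ∈ N, cj n Q = Q}
      ⟨P, le_rfl, hP, hPN, fun n hn => cj_eq_of_le (hPn n hn)⟩
    have hQb : Q = ⊥ := by
      refine hl p Q pp hQ (fun g hg => hfix g (hQN hg)) fun g hg => ?_
      have hle : cj g Q ≤ N := by
        rw [← hNn g hg]; exact cj_le_cj.2 hQN
      have hq' : IsPGroup p (cj g Q) := hQ.map _
      have hnn : ∀ n ∈ N, cj n (cj g Q) = cj g Q := by
        intro n hn
        have h2 : g⁻¹ * n * g ∈ N := by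
          rw [← mem_cj, hNn g hg]; exact hn
        have h3 := congrArg (cj g) (hQn _ h2)
        rw [← cj_mul] at h3
        rw [← cj_mul, ← h3]
        congr 1
        group
      have hsup : IsPGroup p (Q ⊔ cj g Q : Subgroup G) :=
        hQ.to_sup_of_normal_left' hq' fun n hn => mem_norm.2 (hQn n (hle hn))
      have hge : ¬ Q ⊔ cj g Q > Q := by
        refine hmax _ ⟨hPQ.trans le_sup_left, hsup, sup_le hQN hle, fun n hn => ?_⟩
        have : cj n (Q ⊔ cj g Q) = cj n Q ⊔ cj n (cj g Q) := Subgroup.map_sup _ _ _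
        rw [this, hQn n hn, hnn n hn]
      have he : Q ⊔ cj g Q = Q := by
        by_contra hne
        exact hge (lt_of_le_of_ne le_sup_left (Ne.symm hne))
      exact eq_of_le_of_card_ge (sup_eq_left.1 he) (card_cj g Q).ge
    exact le_bot_iff.1 (hQb ▸ hPQ)
  have hNN : ∀ n ∈ N, ∀ m ∈ N, n * m * n⁻¹ ∈ N :=
    fun n hn k hk => N.mul_mem (N.mul_mem hn hk) (N.inv_mem hn)
  have hnab : ¬ ∀ a ∈ N, ∀ b ∈ N, a * b = b * a := fun hc => hN1 (ab_bot hp le_rfl hNN hc)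
  have hss : Ss N := by
    refine ⟨hN1, ?_, ?_, ?_⟩
    · refine (hmn _ (comm_le N) fun g hg m hm => conj_mem ?_ hm).resolve_left
        fun e => hnab (comm_of_bot e)
      rw [cj_comm, hNn g hg]
    · intro z hz hc
      have h2 : N ⊓ centralizer (N : Set G) = ⊥ := by
        refine ab_bot hp inf_le_left (fun n hn m hm => ⟨hNN n hn m hm.1, ?_⟩)
          fun x hx y hy => mem_centralizer_iff.1 hy.2 x hx.1
        have : n * m * n⁻¹ = m := by rw [mem_centralizer_iff.1 hm.2 n hn]; group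
        rw [this]; exact hm.2
      have h3 : z ∈ N ⊓ centralizer (N : Set G) :=
        ⟨hz, mem_centralizer_iff.2 fun x hx => (hc x hx).symm⟩
      rwa [h2, mem_bot] at h3
    · intro O
      induction O using WellFoundedLT.induction with
      | ind O ih =>
        intro hO hOn ho
        by_contra hO1
        have h2 : ⁅O, O⁆ = ⊥ := by
          refine ih _ (lt_of_le_of_ne (comm_le O) (comm_ne ho hO1)) ((comm_le O).trans hO)
            (fun k hk m hm => conj_mem ?_ hm) (ho.of_dvd_nat (card_dvd_of_le (comm_le O)))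
          rw [cj_comm, cj_eq_of_le (hOn k hk)]
        exact hO1 (ab_bot hp hO hOn (comm_of_bot h2))
  choose t ht using fun x => h.trans a x
  have key : ∀ g : G, cj (t (g • a)) N = cj g N := by
    intro g
    have h2 := hNn (g⁻¹ * t (g • a)) (by rw [mul_smul, ht, inv_smul_smul])
    have h3 := congrArg (cj g) h2
    rwa [← cj_mul, mul_inv_cancel_left] at h3
  refine ⟨⟨h, fun x => cj (t x) N, ?_, ?_, fun x => ss_cj hss _, ?_⟩, ?_⟩
  · intro x n hn
    have h2 := hfix _ (mem_cj.1 hn)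
    rw [mul_smul, mul_smul, ht, inv_smul_eq_iff, ht] at h2
    exact h2
  · intro g x
    rw [← cj_mul, ← key (g * t x), mul_smul, ht]
  · intro x P hP hi
    refine cj_inv_eq' (hmn _ (cj_inv_le hP) fun g hg m hm => ?_)
    rw [mem_cj] at hm ⊢
    have := hi (t x * g * (t x)⁻¹)
      (by rw [mul_smul, mul_smul, (inv_smul_eq_iff.2 (ht x).symm : (t x)⁻¹ • x = a), hg, ht]) _ hm
    convert this using 1
    group
  · have := key 1
    rw [one_smul, cj_one] at this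
    exact this.le.trans hNM

theorem Mn.sim_or (C : Mn G X)
    (hc : ∀ (x : X) (g : G), g • x = x → (∀ n ∈ C.N x, g * n = n * g) → g = 1)
    (hd : ∀ {x y : X}, x ≠ y → ∃ d : G, d ≠ 1 ∧ d ∈ C.N x ∧ d ∈ C.N y) (a : X) :
    Sim (C.N a) ∨ Nonempty (Cs G X) := by
  obtain ⟨K1, hK1⟩ := exists_mi (C.ss a).ne
  set Cp : X → Set (Subgroup G) := fun x => {K | ∃ g : G, g • a = x ∧ cj g K1 = K} with hCp
  have hmi : ∀ {x : X} {K : Subgroup G}, K ∈ Cp x → Mi (C.N x) K := by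
    rintro x K ⟨g, rfl, rfl⟩
    rw [← C.cjN]
    exact hK1.cj g
  have hcj : ∀ (g : G) {x : X} {K : Subgroup G}, K ∈ Cp x → cj g K ∈ Cp (g • x) := by
    rintro g x K ⟨k, rfl, rfl⟩
    exact ⟨g * k, mul_smul _ _ _, cj_mul _ _ _⟩
  have hex : ∀ x : X, ∃ K, K ∈ Cp x := fun x =>
    let ⟨g, hg⟩ := C.tr.trans a x
    ⟨_, g, hg, rfl⟩
  have hgen : ∀ x : X, C.N x = ⨆ K ∈ Cp x, K := by
    intro x
    refine ((C.minn x _ (iSup₂_le fun K hK => (hmi hK).le) fun g hg m hm => ?_).resolve_left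
      fun e => ?_).symm
    · have h1 : (⨆ K ∈ Cp x, K) ≤ cj g⁻¹ (⨆ K ∈ Cp x, K) := by
        refine iSup₂_le fun K hK k hk => ?_
        have h2 := hcj g hK
        rw [hg] at h2
        rw [mem_cj, inv_inv]
        exact (le_iSup₂ (f := fun K (_ : K ∈ Cp x) => K) _ h2) (cj_mem hk)
      have := mem_cj.1 (h1 hm)
      rwa [inv_inv] at this
    · obtain ⟨K, hK⟩ := hex x
      exact (hmi hK).ne (le_bot_iff.1 (e ▸ le_iSup₂ (f := fun K (_ : K ∈ Cp x) => K) K hK))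
  have hle : ∀ {x : X} {H : Subgroup G}, (∀ K ∈ Cp x, K ≤ H) → C.N x ≤ H := by
    intro x H hH
    rw [hgen]
    exact iSup₂_le hH
  have hsim : ∀ {x : X} {K : Subgroup G}, K ∈ Cp x → Sim K := by
    intro x K hK
    constructor
    · by_contra hab
      push Not at hab
      refine (hmi hK).ne ((eq_bot_iff_forall _).2 fun z hz => ?_)
      refine (C.ss x).zc z ((hmi hK).le hz) fun n hn => ?_
      have h1 : C.N x ≤ centralizer {z} := by
        refine hle fun L hL l hl => mem_centralizer_singleton_iff.2 ?_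
        by_cases e : K = L
        · subst e; exact hab l hl z hz
        · exact ((hmi hK).comm (hmi hL) e z hz l hl).symm
      exact (mem_centralizer_singleton_iff.1 (h1 hn)).symm
    · intro M hM hn
      have h1 : C.N x ≤ normalizer (M : Set G) := by
        refine hle fun L hL l hl => mem_norm.2 ?_
        by_cases e : K = L
        · subst e; exact cj_eq_of_le (hn l hl)
        · exact cj_eq_of_comm fun m hm => ((hmi hK).comm (hmi hL) e m (hM hm) l hl).symm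
      exact (hmi hK).minn M hM fun n hn m hm => conj_mem (mem_norm.1 (h1 hn)) hm
  have h1 : K1 ∈ Cp a := ⟨1, one_smul _ _, cj_one _⟩
  by_cases h2 : ∃ L ∈ Cp a, K1 ≠ L
  · right
    obtain ⟨L, hL, hne⟩ := h2
    refine ⟨⟨C.tr, C.N, Cp, C.fix, C.cjN, hcj, ?_, hsim,
      fun hK hL e => (hmi hK).comm (hmi hL) e, hgen, ?_, ?_, hd⟩⟩
    · rintro x K L ⟨g, hg, rfl⟩ ⟨k, hk, rfl⟩
      refine ⟨k * g⁻¹, ?_, ?_⟩
      · rw [mul_smul, (inv_smul_eq_iff.2 hg.symm : g⁻¹ • x = a), hk]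
      · rw [cj_mul, cj_inv_cj]
    · intro x
      obtain ⟨g, rfl⟩ := C.tr.trans a x
      exact ⟨_, hcj g h1, _, hcj g hL, fun e => hne (cj_inj.1 e)⟩
    · intro x g hg hk
      refine hc x g hg fun n hn => ?_
      have h3 : C.N x ≤ centralizer {g} :=
        hle fun K hK k hk' => mem_centralizer_singleton_iff.2 (hk K hK k hk').symm
      exact (mem_centralizer_singleton_iff.1 (h3 hn)).symm
  · left
    push Not at h2
    have h3 : C.N a = K1 := le_antisymm (hle fun K hK => (h2 K hK).ge) hK1.le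
    rw [h3]
    exact hsim h1

end H98.ON2
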