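import Cfsg.Agent.Lib.ON2.Bas

/-! Pairs of T.I. subgroups. -/

set_option autoImplicit false
set_option linter.unusedSectionVars false

namespace H98.ON2

open Subgroup

namespace OC

/-- `G` with the conjugation action -/
def Cn (G : Type*) := G

instance {G : Type*} [Group G] : MulAction G (Cn G) where
  smul g a := show G from g * (show G from a) * g⁻¹
  one_smul := fun a : G => show (1 : G) * a * 1⁻¹ = a by simp
  mul_smul g h := fun a : G => show g * h * a * (g * h)⁻¹ = g * (h * a * h⁻¹) * g⁻¹ by group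

variable {G : Type*} [Group G]

theorem dvd_of_free {Y : Type*} [MulAction G Y] {P : Subgroup G} {O : Set Y} (hO : ∀ g ∈ P, ∀ t ∈ O, g • t ∈ O)
    (hf : ∀ g ∈ P, ∀ t ∈ O, g • t = t → g = 1) : Nat.card P ∣ O.ncard := by
  let B : SubMulAction P Y := ⟨O, fun g _ ht => hO g g.2 _ ht⟩
  have := Nat.card_congr (MulAction.selfEquivOrbitsQuotientProd (G := P) (X := B) fun t =>
    eq_bot_iff.2 fun g hg => Subtype.ext (hf g g.2 t t.2 (congrArg Subtype.val hg)))
  rw [Nat.card_prod] at this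
  exact Dvd.intro_left _ this.symm

theorem dvd_of_free' {P : Subgroup G} {O : Set G} (hO : ∀ g ∈ P, ∀ t ∈ O, g * t * g⁻¹ ∈ O)
    (hf : ∀ g ∈ P, ∀ t ∈ O, t * g = g * t → g = 1) : Nat.card P ∣ O.ncard :=
  dvd_of_free (Y := Cn G) hO fun g hg (t : G) ht (e : g * t * g⁻¹ = t) => hf g hg t ht (mul_inv_eq_iff_eq_mul.1 e).symm

theorem card_mul {H K : Subgroup G} (h : H ≤ K) : Nat.card H * H.relIndex K = Nat.card K := by
  rw [← Nat.card_congr (subgroupOfEquivOfLe h).toEquiv]; exact card_mul_index _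

theorem U_mem {A B : Subgroup G} {u b : G} (hu : u ∈ U A B) : u * b * u⁻¹ ∈ U B A ↔ b ∈ U B A := by
  rw [← cj_mem_iff (g := u) (a := b), cj_U, (mem_U.1 hu).2, cj_self hu.1]

end OC

namespace Ti

variable {G : Type*} [Group G] [Finite G] {T : Ti G} {A B V : Subgroup G} {a b g u v : G}

theorem norm_of_comm (hB : B ∈ T.K) (hb : b ∈ B) (h1 : b ≠ 1) (h : g * b = b * g) :
    cj g B = B :=
  T.ti (T.cjm g hB) hB (mem_cj.2 (by rwa [mul_assoc, ← h, inv_mul_cancel_left])) hb h1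

theorem card_eq (hA : A ∈ T.K) (hB : B ∈ T.K) : Nat.card A = Nat.card B := by
  obtain ⟨g, rfl⟩ := T.tr hA hB
  rw [card_cj]

theorem disj (hA : A ∈ T.K) (hB : B ∈ T.K) (hne : A ≠ B) (ha : a ∈ A) (hb : a ∈ B) : a = 1 :=
  by_contra fun h => hne (T.ti hA hB ha hb h)

theorem U_comm (hA : A ∈ T.K) (hB : B ∈ T.K) (hne : A ≠ B) (hu : u ∈ U A B) (hv : v ∈ U B A) :
    u * v = v * u := by
  have := disj hA hB hne (a := u * v * u⁻¹ * v⁻¹)
    (by simpa only [mul_assoc] using mul_mem (U_le _ _ hu) (conj_mem (mem_U.1 hv).2 (inv_mem (U_le _ _ hu))))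
    (mul_mem (conj_mem (mem_U.1 hu).2 hv.1) (inv_mem (U_le _ _ hv)))
  rwa [mul_inv_eq_one, mul_inv_eq_iff_eq_mul] at this

theorem cent_iff (hA : A ∈ T.K) (hB : B ∈ T.K) (hne : A ≠ B) (hv : v ∈ U B A) (h1 : v ≠ 1)
    (ha : a ∈ A) : a * v = v * a ↔ a ∈ U A B :=
  ⟨fun h => mem_U.2 ⟨ha, norm_of_comm hB hv.1 h1 h⟩, fun h => U_comm hA hB hne h hv⟩

theorem card_U (hA : A ∈ T.K) (hB : B ∈ T.K) (hne : A ≠ B) :
    Nat.card (U A B) = Nat.card (U B A) := by
  have k : ∀ {A B : Subgroup G}, A ∈ T.K → B ∈ T.K → A ≠ B → Nat.card (U B A) ∣ Nat.card (U A B) :=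
    fun {A B} hA hB hne => by
      have d := OC.dvd_of_free' (P := U B A) (O := (A : Set G) \ U A B)
        (fun g hg t ht => ⟨conj_mem (mem_U.1 hg).2 ht.1, fun c => ht.2 ((OC.U_mem hg).1 c)⟩)
        fun g hg t ht e => by_contra fun c => ht.2 ((cent_iff hA hB hne hg c ht.1).1 e)
      have e := Set.ncard_sdiff_add_ncard_of_subset (show (U A B : Set G) ⊆ A from U_le A B)
      refine (Nat.dvd_add_right d).1 (e.symm ▸ ?_)
      exact (card_dvd_of_le (U_le B A)).trans (card_eq hB hA).dvd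
  exact Nat.dvd_antisymm (k hB hA hne.symm) (k hA hB hne)

theorem eq_one_of_cent (hA : A ∈ T.K) (hB : B ∈ T.K) (hne : A ≠ B) (hp : U A B ≠ A)
    (hv : v ∈ U B A) (h : ∀ a ∈ A, v * a = a * v) : v = 1 :=
  by_contra fun c => hp ((U_le A B).antisymm fun a ha => (cent_iff hA hB hne hv c ha).1 (h a ha).symm)

theorem U_ne_symm (hA : A ∈ T.K) (hB : B ∈ T.K) (hne : A ≠ B) (hp : U A B ≠ A) :
    U B A ≠ B := fun e =>
  hp (eq_of_le_of_card_ge (U_le A B) (by rw [card_U hA hB hne, e, card_eq hA hB]))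

theorem le_U_of_card (hA : A ∈ T.K) (hB : B ∈ T.K) (hne : A ≠ B) (hV : V ≤ B)
    (hc : Nat.card V ≤ Nat.card (U A B)) (hn : ∀ u ∈ U A B, cj u V = V) : V ≤ U B A := by
  have d := OC.dvd_of_free' (P := U A B) (O := (V : Set G) \ U B A)
    (fun g hg t ht => ⟨conj_mem (hn g hg) ht.1, fun c => ht.2 ((OC.U_mem hg).1 c)⟩)
    fun g hg t ht e => by_contra fun c => ht.2 ((cent_iff hB hA hne.symm hg c (hV ht.1)).1 e)
  have l : ((V : Set G) \ U B A).ncard < Nat.card V :=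
    Set.ncard_lt_ncard ⟨Set.sdiff_subset, fun c => (c (one_mem V)).2 (one_mem _)⟩
  exact Set.sdiff_eq_empty.1 ((Set.ncard_eq_zero (Set.toFinite _)).1 (Nat.eq_zero_of_dvd_of_lt d (l.trans_le hc)))

/-- The centraliser in `U B A` of an involution of `U B A` is abelian. -/
theorem cent_comm (hA : A ∈ T.K) (hB : B ∈ T.K) (hne : A ≠ B) (hp : U A B ≠ A)
    (hv : v ∈ U B A) (hi : Inv v) (ha : a ∈ U B A) (hav : a * v = v * a) (hb : b ∈ U B A)
    (hbv : b * v = v * b) : a * b = b * a := by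
  obtain ⟨g, hg, c, ne⟩ : ∃ g ∈ A, g * v * g⁻¹ * v = v * (g * v * g⁻¹) ∧ g * v * g⁻¹ ≠ v := by
    by_contra hc
    push Not at hc
    exact hi.1 (eq_one_of_cent hA hB hne hp hv ((T.ss hA).zstar hi (mem_U.1 hv).2 hc))
  have hB' := T.cjm g hB
  have tr : ∀ {x : G}, x ∈ U B A → g * x * g⁻¹ ∈ U (cj g B) A := fun h => by
    rw [← cj_self hg, ← cj_U]; exact cj_mem h
  have neA : A ≠ cj g B := fun e => hne (cj_inj.1 ((cj_self hg).trans e))
  have neB : B ≠ cj g B := fun e =>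
    ne (mul_inv_eq_iff_eq_mul.2 (U_comm hA hB hne (mem_U.2 ⟨hg, e.symm⟩) hv))
  have hv' := tr hv
  have v1 := (hi.conj g).1
  have qA : v⁻¹ * (g * v * g⁻¹) ∈ A := by
    have := mul_mem (conj_mem (mem_U.1 (inv_mem hv)).2 hg) (inv_mem hg)
    simpa only [mul_assoc, inv_inv] using this
  have ha' := tr ha
  have hav' : Commute (g * a * g⁻¹) (g * v * g⁻¹) := (show Commute a v from hav).conj g
  have e : a⁻¹ * (g * a * g⁻¹) ∈ A := by
    have := mul_mem (conj_mem (mem_U.1 (inv_mem ha)).2 hg) (inv_mem hg)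
    simpa only [mul_assoc, inv_inv] using this
  generalize g * v * g⁻¹ = v' at *
  generalize g * a * g⁻¹ = a' at *
  generalize cj g B = B' at *
  replace c : Commute v' v := c
  have q1 := (cent_iff hA hB hne hv hi.1 qA).1 ((Commute.refl v).inv_left.mul_left c)
  have q2 := (cent_iff hA hB' neA hv' v1 qA).1 (c.symm.inv_left.mul_left (Commute.refl v'))
  have bv' : Commute b v' := by
    simpa using (show Commute b v from hbv).mul_right (U_comm hA hB hne q1 hb).symm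
  have a'v : Commute a' v := by
    simpa using hav'.mul_right (Commute.inv_right (U_comm hA hB' neA q2 ha').symm)
  have b1 := (cent_iff hB hB' neB (mem_U.2 ⟨hv'.1, norm_of_comm hB hv.1 hi.1 c⟩) v1 hb.1).1 bv'
  have a1 := (cent_iff hB' hB neB.symm (mem_U.2 ⟨hv.1, norm_of_comm hB' hv'.1 v1 c.symm⟩) hi.1 ha'.1).1 a'v
  have k := U_comm hB hB' neB b1 a1
  have := disj hA hB hne (a := a⁻¹ * b * a * b⁻¹) (by
    have e' : a⁻¹ * b * a * b⁻¹ = a⁻¹ * a' * (b * (a⁻¹ * a') * b⁻¹)⁻¹ := by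
      calc _ = a⁻¹ * (b * a') * a'⁻¹ * a * b⁻¹ := by group
        _ = _ := by rw [k]; group
    exact e' ▸ mul_mem e (inv_mem (conj_mem (mem_U.1 hb).2 e)))
    (U_le B A (mul_mem (mul_mem (mul_mem (inv_mem ha) hb) ha) (inv_mem hb)))
  rwa [mul_inv_eq_one, mul_assoc, inv_mul_eq_iff_eq_mul, eq_comm] at this

theorem two_comm (hA : A ∈ T.K) (hB : B ∈ T.K) (hne : A ≠ B) (hp : U A B ≠ A)
    (hV : V ≤ U B A) (h2 : IsPGroup 2 V) (ha : a ∈ V) (hb : b ∈ V) : a * b = b * a := by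
  rcases V.bot_or_nontrivial with rfl | h
  · rw [mem_bot.1 ha, one_mul, mul_one]
  have := h2.center_nontrivial
  obtain ⟨n, n0, e⟩ := (h2.to_subgroup (center V)).nontrivial_iff_card.1 this
  obtain ⟨v, hv, v1, v2⟩ := exists_inv_of_even (K := center V) (e ▸ (Nat.even_pow' n0.ne').2 even_two)
  exact cent_comm hA hB hne hp (hV v.2) ⟨fun c => v1 (Subtype.ext c), congrArg Subtype.val v2⟩ (hV ha)
    (congrArg Subtype.val (mem_center_iff.1 hv ⟨a, ha⟩)) (hV hb) (congrArg Subtype.val (mem_center_iff.1 hv ⟨b, hb⟩))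

theorem Sy.symm (h : T.Sy A B) : T.Sy B A := by
  refine ⟨h.memB, h.memA, h.ne.symm, U_ne_symm h.memA h.memB h.ne h.prop, ?_⟩
  have e := OC.card_mul (U_le A B)
  rw [card_U h.memA h.memB h.ne, card_eq h.memA h.memB, ← OC.card_mul (U_le B A)] at e
  exact Nat.eq_of_mul_eq_mul_left Nat.card_pos e ▸ h.odd

theorem Sy.conj (h : T.Sy A B) (g : G) : T.Sy (cj g A) (cj g B) :=
  ⟨T.cjm g h.memA, T.cjm g h.memB, fun e => h.ne (cj_inj.1 e), fun e => h.prop (cj_inj.1 ((cj_U g A B).trans e)),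
    by rw [← cj_U, relIndex_cj]; exact h.odd⟩

theorem Sy.exists_inv (h : T.Sy A B) : ∃ u ∈ U A B, Inv u := by
  have e := (T.ss h.memA).even
  rw [← OC.card_mul (U_le A B), Nat.even_mul] at e
  exact exists_inv_of_even (e.resolve_right (Nat.not_even_iff_odd.2 h.odd))

end Ti

end H98.ON2
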