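import Cfsg.Agent.Lib.ON2.OC
import Cfsg.Agent.Lib.LocStruct.SylowIn

set_option autoImplicit false
set_option linter.unusedSectionVars false

namespace H98.ON2.SYx

open Subgroup
open H69 (IsSylowIn exists_isSylowIn exists_isSylowIn_le isSylowIn_of_not_dvd_relIndex)

variable {G : Type*} [Group G] [Finite G]

/-- `A ∪ A v` -/
def ext2 (A : Subgroup G) (v : G) (hn : cj v A = A) (v2 : v * v = 1) : Subgroup G where
  carrier := {r | r ∈ A ∨ r * v ∈ A}
  one_mem' := Or.inl (one_mem _)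
  mul_mem' := by
    have i : v⁻¹ = v := inv_eq_of_mul_eq_one_right v2
    rintro r s (h | h) (k | k)
    · exact Or.inl (mul_mem h k)
    · exact Or.inr (by rw [mul_assoc]; exact mul_mem h k)
    · refine Or.inr ?_
      have := mul_mem h (conj_mem hn k)
      rwa [i, show r * v * (v * s * v) = r * (v * v) * s * v by group, v2, mul_one] at this
    · refine Or.inl ?_
      have := mul_mem h (conj_mem hn k)
      rwa [show r * v * (v * (s * v) * v⁻¹) = r * (v * v) * s by group, v2, mul_one] at this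
  inv_mem' := by
    rintro r (h | h)
    · exact Or.inl (inv_mem h)
    · refine Or.inr ?_
      have := conj_mem hn (inv_mem h)
      rwa [show v * (r * v)⁻¹ * v⁻¹ = r⁻¹ * v⁻¹ by group, inv_eq_of_mul_eq_one_right v2] at this

theorem ex_fix {E M A : Subgroup G} (hE : IsSylowIn 2 E M) (hc : ∀ a ∈ E, ∀ b ∈ E, a * b = b * a)
    {v : G} (hv : v ∈ E) (v2 : v * v = 1) (hA : ∀ g ∈ M, g * v * g⁻¹ * v⁻¹ ∈ A) :
    ∃ u ∈ E, u ∈ A ∧ u * u = 1 ∧ ∀ n ∈ M, cj n E = E → n * (u * v) * n⁻¹ = u * v := by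
  classical
  have : Fact (Nat.Prime 2) := ⟨Nat.prime_two⟩
  let _ : CommGroup E := { (inferInstance : Group E) with
    mul_comm := fun a b => Subtype.ext (hc a a.2 b b.2) }
  set N := M ⊓ normalizer (E : Set G) with hN
  let _ : MulDistribMulAction N E :=
    MulDistribMulAction.compHom E (E.normalizerMonoidHom.comp (inclusion inf_le_right))
  have sm : ∀ (n : N) (x : E), ((n • x : E) : G) = n * x * (n : G)⁻¹ := fun _ _ => rfl
  let v' : E := ⟨v, hv⟩
  let O := (Set.toFinite (MulAction.orbit N v')).toFinset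
  have EN : E ≤ N := le_inf hE.le le_normalizer
  have odd : Odd O.card := by
    have e : O.card = (MulAction.stabilizer N v').index := by
      rw [MulAction.index_stabilizer, Set.ncard_eq_toFinset_card _ (Set.toFinite _)]
    have d : (MulAction.stabilizer N v').index ∣ E.relIndex N := index_dvd_of_le fun n hn =>
      Subtype.ext (by rw [sm, hc n hn v' hv, mul_inv_cancel_right])
    rw [e, ← Nat.not_even_iff_odd, even_iff_two_dvd]
    exact fun k => (hE.mono EN inf_le_left).not_dvd_relIndex (k.trans d)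
  have vv : v' * v' = 1 := Subtype.ext v2
  have mO : ∀ x ∈ O, x * x = 1 ∧ x * v'⁻¹ ∈ A.subgroupOf E := fun x hx => by
    obtain ⟨n, rfl⟩ := (Set.Finite.mem_toFinset _).1 hx
    exact ⟨by rw [← smul_mul', vv, smul_one], hA n n.2.1⟩
  have cA : (∏ x ∈ O, x) * v'⁻¹ ∈ A.subgroupOf E := by
    have := Subgroup.prod_mem _ fun x hx => (mO x hx).2
    obtain ⟨k, hk⟩ := odd
    rwa [Finset.prod_mul_distrib, Finset.prod_const, hk, pow_succ, pow_mul, sq, ← mul_inv, vv,
      inv_one, one_pow, one_mul] at this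
  have c2 : (∏ x ∈ O, x) * (∏ x ∈ O, x) = 1 := by
    rw [← Finset.prod_mul_distrib]
    exact Finset.prod_eq_one fun x hx => (mO x hx).1
  refine ⟨_, ((∏ x ∈ O, x) * v'⁻¹).2, cA, ?_, fun n hn e => ?_⟩
  · rw [← coe_mul, mul_mul_mul_comm, c2, ← mul_inv, vv]; simp
  · have : (⟨n, hn, mem_norm.2 e⟩ : N) • ∏ x ∈ O, x = ∏ x ∈ O, x := by
      rw [Finset.smul_prod']
      refine Finset.prod_equiv (MulAction.toPerm (⟨n, hn, mem_norm.2 e⟩ : N)) (fun x => ?_)
        fun _ _ => rfl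
      simp only [O, Set.Finite.mem_toFinset, MulAction.toPerm_apply]
      exact ⟨fun k => MulAction.mem_orbit_of_mem_orbit _ k, fun k => by
        simpa using MulAction.mem_orbit_of_mem_orbit (⟨n, hn, mem_norm.2 e⟩ : N)⁻¹ k⟩
    have := congrArg Subtype.val this
    rw [sm] at this
    simpa [v'] using this

theorem iso {E M : Subgroup G} (hE : IsSylowIn 2 E M) (hc : ∀ a ∈ E, ∀ b ∈ E, a * b = b * a)
    {c : G} (hv : c ∈ E) (c2 : c * c = 1) (hf : ∀ n ∈ M, cj n E = E → n * c * n⁻¹ = c) {g : G}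
    (hg : g ∈ M) (h : g * c * g⁻¹ * c = c * (g * c * g⁻¹)) : g * c * g⁻¹ = c := by
  have : Fact (Nat.Prime 2) := ⟨Nat.prime_two⟩
  have sy : ∀ {T : Subgroup G} {x : G}, IsSylowIn 2 T M → (∀ a ∈ T, a * x = x * a) →
      IsSylowIn 2 T (M ⊓ centralizer {x}) := fun hT hx =>
    hT.mono (le_inf hT.le fun a ha => mem_centralizer_singleton_iff.2 (hx a ha)) inf_le_left
  have p : IsPGroup 2 (zpowers (g * c * g⁻¹)) := by
    rintro ⟨_, k, rfl⟩
    refine ⟨1, Subtype.ext ?_⟩
    show ((g * c * g⁻¹) ^ k) ^ 2 ^ 1 = 1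
    rw [← zpow_natCast, ← zpow_mul, mul_comm, zpow_mul, zpow_natCast, pow_one, sq, conj_mul, c2]
    simp
  obtain ⟨k, hk, le⟩ := (sy hE fun a ha => hc a ha c hv).exists_cj_le p (zpowers_le.2
    ⟨conj_mem (cj_self hg) (hE.le hv), mem_centralizer_singleton_iff.2 h⟩)
  have m : k * g * c * (k * g)⁻¹ ∈ E := by
    have := le (cj_mem (g := k) (mem_zpowers _))
    convert this using 1
    group
  obtain ⟨n, hn, e⟩ := (sy (hE.cj_of_mem (mul_mem hk.1 hg)) (x := k * g * c * (k * g)⁻¹) (by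
    rintro _ ⟨a, ha, rfl⟩
    show k * g * a * (k * g)⁻¹ * _ = _ * (k * g * a * (k * g)⁻¹)
    rw [conj_mul, conj_mul, hc a ha c hv])).conj (sy hE fun a ha => hc a ha _ m)
  have := hf (n * (k * g)) (mul_mem hn.1 (mul_mem hk.1 hg)) (by rw [cj_mul]; exact e)
  have n1 := mem_centralizer_singleton_iff.1 hn.2
  have k1 := mem_centralizer_singleton_iff.1 hk.2
  rw [show n * (k * g) * c * (n * (k * g))⁻¹ = n * (k * g * c * (k * g)⁻¹) * n⁻¹ by group, n1,
    mul_inv_cancel_right] at this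
  calc g * c * g⁻¹ = k⁻¹ * (k * g * c * (k * g)⁻¹) * k := by group
    _ = c := by rw [this, mul_assoc, ← k1]; group

end H98.ON2.SYx

namespace H98.ON2.Ti

open Subgroup SYx
open H69 (IsSylowIn exists_isSylowIn isSylowIn_of_not_dvd_relIndex)

variable {G : Type*} [Group G] [Finite G] {T : Ti G} {A B : Subgroup G} {a u v : G}

theorem Sy.inner (h : T.Sy A B) (hv : v ∈ U B A) (hi : Inv v) :
    ∃ u ∈ U A B, Inv u ∧ ∀ a ∈ A, v * a * v⁻¹ = u * a * u⁻¹ := by
  have : Fact (Nat.Prime 2) := ⟨Nat.prime_two⟩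
  obtain ⟨P, hP⟩ := exists_isSylowIn 2 (U A B)
  have PA : IsSylowIn 2 P A := isSylowIn_of_not_dvd_relIndex hP.isP (hP.le.trans (U_le _ _)) (by
    rw [← relIndex_mul_relIndex P (U A B) A hP.le (U_le _ _), Nat.prime_two.dvd_mul, not_or]
    exact ⟨hP.not_dvd_relIndex, by rw [← even_iff_two_dvd, Nat.not_even_iff_odd]; exact h.odd⟩)
  have cP : ∀ a ∈ P, ∀ b ∈ P, a * b = b * a := fun a ha b hb =>
    two_comm h.memB h.memA h.ne.symm h.symm.prop hP.le hP.isP ha hb
  have vP : ∀ a ∈ P, v * a = a * v := fun a ha => (U_comm h.memA h.memB h.ne (hP.le ha) hv).symm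
  have nA := (mem_U.1 hv).2
  have i := hi.inv_eq
  set M := ext2 A v nA hi.2 with hM
  set E := ext2 P v (cj_eq_of_comm vP) hi.2 with hE
  have vE : v ∈ E := Or.inr (by rw [hi.2]; exact one_mem _)
  have dec : ∀ r ∈ E, ∃ a ∈ P, r = a ∨ r = a * v := by
    rintro r (k | k)
    · exact ⟨r, k, Or.inl rfl⟩
    · exact ⟨_, k, Or.inr (by rw [mul_assoc, hi.2, mul_one])⟩
  have cE : ∀ a ∈ E, ∀ b ∈ E, a * b = b * a := fun r hr s hs => by
    obtain ⟨a, ha, e1⟩ := dec r hr
    obtain ⟨b, hb, e2⟩ := dec s hs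
    have c1 : Commute a b := cP a ha b hb
    have c2 : Commute v a := vP a ha
    have c3 : Commute v b := vP b hb
    rcases e1 with rfl | rfl <;> rcases e2 with rfl | rfl
    · exact c1
    · exact c1.mul_right c2.symm
    · exact c1.mul_left c3
    · exact (c1.mul_left c3).mul_right (c2.symm.mul_left (Commute.refl v))
  have sE : IsSylowIn 2 E M := by
    refine ⟨fun r hr => hr.imp (fun k => PA.le k) fun k => PA.le k, fun r => ?_, fun R h1 h2 h3 => ?_⟩
    · obtain ⟨a, ha, e⟩ := dec r r.2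
      obtain ⟨k, hk⟩ := hP.isP ⟨a, ha⟩
      have hk : a ^ 2 ^ k = 1 := congrArg Subtype.val hk
      refine ⟨k + 1, Subtype.ext ?_⟩
      show (r : G) ^ 2 ^ (k + 1) = 1
      rcases e with e | e <;> rw [e]
      · rw [pow_succ, pow_mul, hk, one_pow]
      · rw [(show Commute a v from (vP a ha).symm).mul_pow, pow_succ, pow_mul, hk, one_pow, one_mul,
          mul_comm, pow_mul, sq, hi.2, one_pow]
    · have e := PA.max (R ⊓ A) (le_inf (fun a ha => h1 (Or.inl ha)) PA.le) inf_le_right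
        (h3.to_le inf_le_left)
      refine le_antisymm (fun r hr => ?_) h1
      rcases h2 hr with k | k
      · exact Or.inl (e.le ⟨hr, k⟩)
      · exact Or.inr (e.le ⟨mul_mem hr (h1 vE), k⟩)
  obtain ⟨u, uE, uA, u2, hf⟩ := ex_fix (A := A) sE cE vE hi.2 (by
    rintro g (k | k)
    · rw [mul_assoc, mul_assoc, ← mul_assoc v]
      exact mul_mem k (conj_mem nA (inv_mem k))
    · have := mul_mem k (conj_mem nA (inv_mem k))
      rwa [show g * v * (v * (g * v)⁻¹ * v⁻¹) = g * v * g⁻¹ * v⁻¹ by group] at this)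
  have vA : v ∉ A := fun k => hi.1 (disj h.memA h.memB h.ne k (U_le _ _ hv))
  have uP : u ∈ P := uE.resolve_right fun k =>
    vA (by simpa using mul_mem (inv_mem uA) (PA.le k))
  have c2 : u * v * (u * v) = 1 := by
    calc u * v * (u * v) = u * (v * u) * v := by group
      _ = u * u * (v * v) := by rw [vP u uP]; group
      _ = 1 := by rw [u2, hi.2, one_mul]
  have c1 : u * v ≠ 1 := fun e => vA (by rw [eq_inv_of_mul_eq_one_right e]; exact inv_mem uA)
  have z := (T.ss h.memA).zstar ⟨c1, c2⟩ (by rw [cj_mul, nA, cj_self uA]) fun g hg k =>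
    iso sE cE (mul_mem uE vE) c2 hf (Or.inl hg) k
  have ui : u⁻¹ = u := inv_eq_of_mul_eq_one_right u2
  refine ⟨u, hP.le uP, ⟨fun e => hi.1 (eq_one_of_cent h.memA h.memB h.ne h.prop hv ?_), u2⟩,
    fun a ha => ?_⟩
  · simpa [e] using z
  · calc v * a * v⁻¹ = u⁻¹ * (u * v * a) * v⁻¹ := by group
      _ = u⁻¹ * a * u := by rw [z a ha]; group
      _ = _ := by rw [ui]

theorem Sy.cent (h : T.Sy A B) (hu : u ∈ U A B) (hi : Inv u) (ha : a ∈ A) :
    a * u = u * a ↔ a ∈ U A B := by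
  have key : ∀ {A B : Subgroup G}, T.Sy A B → {v | v ∈ U B A ∧ Inv v}.ncard ≤
      {u | (u ∈ U A B ∧ Inv u) ∧ ∀ a ∈ A, a * u = u * a ↔ a ∈ U A B}.ncard := by
    intro A B h
    choose! f f1 f2 f3 using fun v (hv : v ∈ U B A ∧ Inv v) => h.inner hv.1 hv.2
    refine Set.ncard_le_ncard_of_injOn f (fun v hv => ⟨⟨f1 v hv, f2 v hv⟩, fun a ha => ?_⟩)
      fun v hv w hw e => ?_
    · rw [← cent_iff h.memA h.memB h.ne hv.1 hv.2.1 ha, eq_comm, ← mul_inv_eq_iff_eq_mul,
        ← f3 v hv a ha, mul_inv_eq_iff_eq_mul, eq_comm]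
    · refine (inv_mul_eq_one.1 (eq_one_of_cent h.memA h.memB h.ne h.prop
        (mul_mem (inv_mem hw.1) hv.1) fun a ha => ?_)).symm
      have := f3 v hv a ha
      rw [e, ← f3 w hw a ha] at this
      calc w⁻¹ * v * a = w⁻¹ * (v * a * v⁻¹) * v := by group
        _ = _ := by rw [this]; group
  have e := Set.eq_of_subset_of_ncard_le (s := {u | (u ∈ U A B ∧ Inv u) ∧
      ∀ a ∈ A, a * u = u * a ↔ a ∈ U A B}) (t := {u | u ∈ U A B ∧ Inv u}) (fun _ k => k.1)
    (((key h.symm).trans (Set.ncard_le_ncard fun _ k => k.1)).trans (key h))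
  exact (e.ge ⟨hu, hi⟩).2 a ha

end H98.ON2.Ti
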